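import Cfsg.Agent.Wall.MinusCount
import Mathlib.GroupTheory.SchurZassenhaus

/-!
The conclusion when the common character has degree `1 - 2k`.
-/

set_option autoImplicit false
set_option linter.unusedSectionVars false
set_option linter.style.haveILetI false
set_option linter.deprecated false

namespace CfsgLib.Wall

open Subgroup CfsgLib.Char
open scoped ComplexConjugate commutatorElement

universe u

namespace Data.Exc

variable {G : Type u} [Group G] [Fintype G] {D : Data G} [Fintype D.K] [Fintype (D.K →* ℂˣ)]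
  {E : D.Exc} {A : Subgroup G}

/-- The centralizer of a zero of the common character is abelian and half its non-identity
elements are conjugate to it. -/
theorem Minus.centralizer_zero (M : Minus E) (S : Second E A) {g : G} (hg : ¬ InConj D.K g)
    (h0 : E.psi g = 0) :
    (∀ c ∈ Subgroup.centralizer ({g} : Set G), c ≠ 1 →
        Subgroup.centralizer ({c} : Set G) = Subgroup.centralizer ({g} : Set G)) ∧
      Nat.card {x : G // x ∈ Subgroup.centralizer ({g} : Set G) ∧ IsConj g x} = Nat.card D.K - 1 := by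
  classical
  have h4 := M.four_le
  -- the key commutation
  have key : ∀ h : G, ¬ InConj D.K h → E.psi h = 0 →
      ((Finset.univ.filter fun x => x ∈ Subgroup.centralizer ({h} : Set G) ∧ IsConj h x).card =
        Nat.card D.K - 1) ∧
      ∀ x : G, IsConj h x → ¬ InConj D.K (x⁻¹ * h) → E.psi (x⁻¹ * h) = 0 →
        x ∈ Subgroup.centralizer ({h} : Set G) := by
    intro h hh hh0
    obtain ⟨hnc, hcC, hq, hsplit⟩ := M.zero_facts S hh hh0
    set C := Subgroup.centralizer ({h} : Set G) with hC
    set P := Finset.univ.filter fun x => x ∈ C ∧ IsConj h x with hP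
    set N := Finset.univ.filter fun x => x ∈ C ∧ IsConj h⁻¹ x with hN
    have hunion : P ∪ N = (Finset.univ.filter fun x => x ∈ C).erase 1 := by
      ext x
      simp only [hP, hN, Finset.mem_union, Finset.mem_filter, Finset.mem_univ, true_and, Finset.mem_erase]
      constructor
      · rintro (⟨hx, e⟩ | ⟨hx, e⟩) <;> refine ⟨fun e1 => ?_, hx⟩ <;> subst e1 <;>
          obtain ⟨y, hy⟩ := isConj_iff.1 e
        · exact ne_one_of_not_inConj hh (conj_eq_one_iff.1 hy)
        · exact ne_one_of_not_inConj hh (inv_eq_one.1 (conj_eq_one_iff.1 hy))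
      · rintro ⟨hx1, hx⟩
        obtain ⟨hxo, hx0⟩ := hcC x hx hx1
        rcases hsplit x hxo hx0 with e | e
        · exact Or.inl ⟨hx, e⟩
        · exact Or.inr ⟨hx, e⟩
    have hdisj : Disjoint P N := Finset.disjoint_left.2 fun x h1 h2 =>
      hnc ((Finset.mem_filter.1 h1).2.2.trans (Finset.mem_filter.1 h2).2.2.symm)
    have hPN : P.card = N.card := by
      refine Finset.card_equiv (Equiv.inv G) fun x => ?_
      simp only [hP, hN, Finset.mem_filter, Finset.mem_univ, true_and, Equiv.inv_apply, inv_mem_iff]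
      refine and_congr_right fun _ => ⟨fun e => ?_, fun e => ?_⟩
      · obtain ⟨y, rfl⟩ := isConj_iff.1 e
        exact isConj_iff.2 ⟨y, by group⟩
      · obtain ⟨y, hy⟩ := isConj_iff.1 e
        refine isConj_iff.2 ⟨y, inv_injective ?_⟩
        rw [← hy]; group
    have hC1 : ((Finset.univ.filter fun x => x ∈ C).erase 1).card = 2 * Nat.card D.K - 1 - 1 := by
      rw [Finset.card_erase_of_mem (by simp [C.one_mem]), ← Fintype.card_subtype,
        ← Nat.card_eq_fintype_card]
      exact congrArg (· - 1) hq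
    have hcP : P.card = Nat.card D.K - 1 := by
      have := congrArg Finset.card hunion
      rw [Finset.card_union_of_disjoint hdisj, hC1, ← hPN] at this
      omega
    refine ⟨hcP, fun x hx hxo hx0 => ?_⟩
    have hT := M.count_products S hh hh0
    set T := Finset.univ.filter fun x =>
      IsConj h x ∧ ¬ InConj D.K (x⁻¹ * h) ∧ E.psi (x⁻¹ * h) = 0 with hTdef
    have hhP : h ∈ P := by
      simp only [hP, Finset.mem_filter, Finset.mem_univ, true_and]
      exact ⟨mem_centralizer_singleton_iff.2 rfl, IsConj.refl h⟩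
    have hsub : P.erase h ⊆ T := by
      intro y hy
      simp only [Finset.mem_erase, hP, Finset.mem_filter, Finset.mem_univ, true_and] at hy
      simp only [hTdef, Finset.mem_filter, Finset.mem_univ, true_and]
      refine ⟨hy.2.2, hcC _ (mul_mem (inv_mem hy.2.1) (mem_centralizer_singleton_iff.2 rfl)) ?_⟩
      intro e
      exact hy.1 (inv_mul_eq_one.1 e)
    have heq : P.erase h = T := Finset.eq_of_subset_of_card_le hsub (by
      rw [Finset.card_erase_of_mem hhP, hcP, hT]; omega)
    have hxT : x ∈ P.erase h := by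
      rw [heq]; simp only [hTdef, Finset.mem_filter, Finset.mem_univ, true_and]; exact ⟨hx, hxo, hx0⟩
    exact (Finset.mem_filter.1 (Finset.mem_erase.1 hxT).2).2.1
  obtain ⟨-, hcC, hq, -⟩ := M.zero_facts S hg h0
  set C := Subgroup.centralizer ({g} : Set G) with hC
  have hab : ∀ a ∈ C, ∀ b ∈ C, a * b = b * a := by
    intro a ha b hb
    by_cases ha1 : a = 1
    · rw [ha1, one_mul, mul_one]
    by_cases hb1 : b = 1
    · rw [hb1, one_mul, mul_one]
    obtain ⟨hao, ha0⟩ := hcC a ha ha1
    obtain ⟨hbo, hb0⟩ := hcC b hb hb1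
    have step : ∀ x ∈ C, IsConj a x → x * a = a * x := by
      intro x hx hax
      by_cases e : x = a
      · rw [e]
      obtain ⟨h1, h2⟩ := hcC _ (mul_mem (inv_mem hx) ha) fun h => e (inv_mul_eq_one.1 h)
      exact mem_centralizer_singleton_iff.1 ((key a hao ha0).2 x hax h1 h2)
    rcases (M.zero_facts S hao ha0).2.2.2 b hbo hb0 with e | e
    · exact (step b hb e).symm
    · have e' : IsConj a b⁻¹ := by
        obtain ⟨y, hy⟩ := isConj_iff.1 e
        exact isConj_iff.2 ⟨y, by rw [← hy]; group⟩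
      exact (Commute.inv_left_iff.1 (step b⁻¹ (inv_mem hb) e')).eq.symm
  refine ⟨fun c hc hc1 => ?_, ?_⟩
  · obtain ⟨hco, hc0⟩ := hcC c hc hc1
    refine (eq_of_le_of_card_ge (fun x hx => mem_centralizer_singleton_iff.2 (hab x hx c hc)) ?_).symm
    rw [(M.zero_facts S hco hc0).2.2.1, hq]
  · rw [Nat.card_eq_fintype_card, Fintype.card_subtype]
    exact (key g hg h0).1

theorem Second.conj_eq (S : Second E A) {x z : G} (hz : z * x * z⁻¹ ∈ A) (hx : x ≠ 1) (y : G) :
    y ∈ Subgroup.centralizer ({x} : Set G) ↔ z * y * z⁻¹ ∈ A := by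
  rw [← S.centralizer _ hz (fun e => hx (conj_eq_one_iff.1 e))]
  refine ⟨fun h => conj_mem_centralizer h, fun h => ?_⟩
  have := conj_mem_centralizer (z := z⁻¹) h
  simpa [mul_assoc] using this

/-- A subgroup whose order divides `k - 1` is abelian. -/
theorem Minus.comm_of_dvd (M : Minus E) (S : Second E A)
    (hout : ∀ x : G, orderOf x ∣ Nat.card D.K - 1 → x ≠ 1 → InConj A x)
    {X : Subgroup G} (hX : Nat.card X ∣ Nat.card D.K - 1) : commutator X = ⊥ := by
  classical
  rw [← Subgroup.card_eq_one]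
  by_contra hne
  obtain ⟨r, hr, hrd⟩ := Nat.exists_prime_and_dvd hne
  haveI : Fact r.Prime := ⟨hr⟩
  obtain ⟨P⟩ : Nonempty (Sylow r X) := Sylow.nonempty
  have hrX : r ∣ Nat.card X := hrd.trans (card_subgroup_dvd_card _)
  haveI : Nontrivial (P : Subgroup X) := by
    rw [Subgroup.nontrivial_iff_ne_bot]
    intro h
    have := P.dvd_card_of_dvd_card hrX
    rw [h, Subgroup.card_bot] at this
    exact hr.ne_one (Nat.dvd_one.1 this)
  haveI := P.2.center_nontrivial
  obtain ⟨⟨⟨x, hxP⟩, hxc⟩, hx1⟩ := exists_ne (1 : Subgroup.center (P : Subgroup X))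
  have hx1' : (x : G) ≠ 1 := fun e => hx1 (Subtype.ext (Subtype.ext (Subtype.ext e)))
  obtain ⟨z, hz⟩ := hout (x : G) ((Subgroup.orderOf_dvd_natCard X x.2).trans hX) hx1'
  have hin : ∀ y ∈ (P : Subgroup X), z * (y : G) * z⁻¹ ∈ A := fun y hy =>
    (S.conj_eq hz hx1' _).1 (mem_centralizer_singleton_iff.2 (by
      have := congrArg Subtype.val (Subgroup.mem_center_iff.1 hxc ⟨y, hy⟩)
      exact congrArg (fun w : X => (w : G)) this))
  have hNC : normalizer ((P : Subgroup X) : Set X) ≤ centralizer ((P : Subgroup X) : Set X) := by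
    intro n hn
    have hn' := (mem_normalizer_iff.1 hn x).1 hxP
    have hzn : z * (n : G) * z⁻¹ ∈ A := by
      have hN : z * (n : G) * z⁻¹ ∈ Subgroup.normalizer (A : Set G) := by
        refine mem_normalizer_of_conj S.centralizer hz (fun e => hx1' (conj_eq_one_iff.1 e)) ?_
        have h := hin _ hn'
        rw [show z * (n : G) * z⁻¹ * (z * (x : G) * z⁻¹) * (z * (n : G) * z⁻¹)⁻¹ =
          z * ((n : G) * (x : G) * (n : G)⁻¹) * z⁻¹ by group]
        simpa using h
      have htN : D.t ∈ Subgroup.normalizer (A : Set G) := by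
        rw [S.normalizer]; exact mem_sup_right (mem_zpowers _)
      have hN' := hN
      rw [S.normalizer] at hN'
      rcases mem_sup_t htN hN' with h | h
      · exact h
      set w := z * (n : G) * z⁻¹ with hw
      have hwinv : D.t * (w * D.t) * D.t⁻¹ = (w * D.t)⁻¹ := S.dih.inverts _ h
      have hw2 : w * w = 1 := by
        rw [mul_inv_rev, D.t_inv] at hwinv
        have h2 : D.t * w = D.t * w⁻¹ := by
          rw [← hwinv]
          calc D.t * w = D.t * w * (D.t * D.t) := by rw [D.t_sq, mul_one]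
            _ = _ := by group
        exact mul_eq_one_iff_eq_inv.2 (mul_left_cancel h2)
      have hodd : orderOf w ∣ Nat.card D.K - 1 := by
        rw [hw, show z * (n : G) * z⁻¹ = MulAut.conj z (n : G) from rfl, MulEquiv.orderOf_eq]
        exact (Subgroup.orderOf_dvd_natCard X n.2).trans hX
      have hd2 : orderOf w ∣ 2 := orderOf_dvd_of_pow_eq_one (by rw [sq, hw2])
      have : orderOf w ∣ 1 := by
        obtain ⟨m, hm⟩ := D.even_card_K
        have h2 := M.four_le
        have e := Nat.dvd_gcd hd2 hodd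
        rwa [show Nat.gcd 2 (Nat.card D.K - 1) = 1 by
          rw [Nat.gcd_rec, show (Nat.card D.K - 1) % 2 = 1 by omega]; norm_num] at e
      rw [orderOf_eq_one_iff.1 (Nat.dvd_one.1 this)]
      exact one_mem _
    refine mem_centralizer_iff.2 fun y hy => Subtype.ext ?_
    have h := S.dih.comm _ (hin y hy) _ hzn
    rw [conj_mul, conj_mul] at h
    simpa using h
  have hle : commutator X ≤ (MonoidHom.transferSylow P hNC).ker := by
    haveI : IsMulCommutative (P : Subgroup X) :=
      ⟨⟨fun a b => Subtype.ext (hNC (le_normalizer b.2) a a.2)⟩⟩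
    rw [commutator_def, Subgroup.commutator_le]
    intro a _ b _
    rw [MonoidHom.mem_ker, map_commutatorElement, commutatorElement_eq_one_iff_mul_comm]
    exact mul_comm' _ _
  exact MonoidHom.not_dvd_card_ker_transferSylow P hNC (hrd.trans (card_dvd_of_le hle))

theorem concl_minus (M : Minus E) : Concl G := by
  classical
  have h4 := M.four_le
  set k := Nat.card D.K with hk
  obtain ⟨A, S⟩ := M.exists_second
  have hAcard : Nat.card A = k - 1 := S.card
  obtain ⟨g, hgm⟩ : ((rest D.K).filter fun g => E.psi g = 0).Nonempty := by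
    rw [← Finset.card_pos, M.counts.1]
    exact Nat.mul_pos (by omega) (by omega)
  rw [Finset.mem_filter, mem_rest] at hgm
  obtain ⟨hg, h0⟩ := hgm
  have hcop1 : Nat.Coprime (2 * k - 1) (k - 1) := by
    refine Nat.coprime_of_dvd fun r hr h1 h2 => hr.ne_one (Nat.dvd_one.1 ?_)
    have := Nat.dvd_sub h1 (h2.mul_left 2)
    rwa [show 2 * k - 1 - 2 * (k - 1) = 1 by omega] at this
  -- elements of order dividing `k - 1` lie in the second torus
  have hout : ∀ x : G, orderOf x ∣ k - 1 → x ≠ 1 → InConj A x := by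
    intro x hx hx1
    have hxo : ¬ InConj D.K x := by
      rintro ⟨y, hy⟩
      have h1 := Subgroup.orderOf_dvd_natCard _ hy
      rw [show y * x * y⁻¹ = MulAut.conj y x from rfl, MulEquiv.orderOf_eq, ← hk] at h1
      have := Nat.dvd_sub h1 hx
      rw [show k - (k - 1) = 1 by omega] at this
      exact hx1 (orderOf_eq_one_iff.1 (Nat.dvd_one.1 this))
    rcases M.psi_pairs hxo with ⟨h, -⟩ | ⟨h, -⟩
    · have h1 := Subgroup.orderOf_dvd_natCard (Subgroup.centralizer ({x} : Set G))
        (mem_centralizer_singleton_iff.2 rfl : x ∈ Subgroup.centralizer ({x} : Set G))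
      rw [(M.zero_facts S hxo h).2.2.1, ← hk] at h1
      have := Nat.dvd_gcd h1 hx
      rw [hcop1] at this
      exact absurd (orderOf_eq_one_iff.1 (Nat.dvd_one.1 this)) hx1
    · exact S.covers x hxo h
  -- the normalizer of the centralizer of a zero
  have hnorm : ∀ g : G, ¬ InConj D.K g → E.psi g = 0 →
      Nat.card (Subgroup.normalizer ((Subgroup.centralizer ({g} : Set G)) : Set G)) =
        (k - 1) * (2 * k - 1) := by
    intro g hg h0
    obtain ⟨hTI, hcl⟩ := M.centralizer_zero S hg h0
    set Q := Subgroup.centralizer ({g} : Set G) with hQ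
    set N := Subgroup.normalizer (Q : Set G) with hN
    have hgQ : g ∈ Q := mem_centralizer_singleton_iff.2 rfl
    have hg1 := ne_one_of_not_inConj hg
    have hex : ∀ x : {x : G // x ∈ Q ∧ IsConj g x}, ∃ n : N, (n : G) * g * (n : G)⁻¹ = x := by
      rintro ⟨x, hx, hgx⟩
      obtain ⟨y, hy⟩ := isConj_iff.1 hgx
      exact ⟨⟨y, mem_normalizer_of_conj hTI hgQ hg1 (hy ▸ hx)⟩, hy⟩
    choose rep hrep using hex
    rw [← hk] at hcl
    rw [← hcl, show 2 * k - 1 = Nat.card Q from (M.zero_facts S hg h0).2.2.1.symm, ← Nat.card_prod]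
    refine (Nat.card_eq_of_bijective (fun p => rep p.1 * ⟨(p.2 : G), le_normalizer p.2.2⟩) ⟨?_, ?_⟩).symm
    · rintro ⟨x, e⟩ ⟨x', e'⟩ h
      have hfix : ∀ e : Q, (e : G) * g * (e : G)⁻¹ = g := fun e =>
        mul_inv_eq_iff_eq_mul.2 (mem_centralizer_singleton_iff.1 e.2)
      have hval : ∀ (x : {x : G // x ∈ Q ∧ IsConj g x}) (e : Q),
          ((rep x : G) * e) * g * ((rep x : G) * e)⁻¹ = x := by
        intro x e
        calc ((rep x : G) * e) * g * ((rep x : G) * e)⁻¹ =
              (rep x : G) * ((e : G) * g * (e : G)⁻¹) * (rep x : G)⁻¹ := by group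
          _ = _ := by rw [hfix, hrep]
      have h' : (rep x : G) * e = (rep x' : G) * e' := congrArg Subtype.val h
      obtain rfl : x = x' := Subtype.ext (by rw [← hval x e, h', hval x' e'])
      obtain rfl : e = e' := Subtype.ext (mul_left_cancel h')
      rfl
    · intro n
      have hxQ : (n : G) * g * (n : G)⁻¹ ∈ Q := (mem_normalizer_iff.1 n.2 g).1 hgQ
      set x : {x : G // x ∈ Q ∧ IsConj g x} := ⟨_, hxQ, isConj_iff.2 ⟨(n : G), rfl⟩⟩ with hx
      have he : (rep x : G)⁻¹ * n ∈ Q := by
        refine mem_centralizer_singleton_iff.2 (mul_inv_eq_iff_eq_mul.1 ?_)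
        calc (rep x : G)⁻¹ * n * g * ((rep x : G)⁻¹ * n)⁻¹ =
              (rep x : G)⁻¹ * ((n : G) * g * (n : G)⁻¹) * rep x := by group
          _ = (rep x : G)⁻¹ * ((rep x : G) * g * (rep x : G)⁻¹) * rep x := by rw [hrep x, hx]
          _ = g := by group
      exact ⟨(x, ⟨_, he⟩), Subtype.ext (mul_inv_cancel_left _ _)⟩
  -- a complement
  obtain ⟨hTI₀, -⟩ := M.centralizer_zero S hg h0
  set Q₀ := Subgroup.centralizer ({g} : Set G) with hQ₀
  set N₀ := Subgroup.normalizer (Q₀ : Set G) with hN₀
  have hQ₀c : Nat.card Q₀ = 2 * k - 1 := (M.zero_facts S hg h0).2.2.1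
  haveI : (Q₀.subgroupOf N₀).Normal := normal_subgroupOf_of_le_normalizer le_rfl
  have hQ₀sub : Nat.card (Q₀.subgroupOf N₀) = 2 * k - 1 := by
    rw [Nat.card_congr (subgroupOfEquivOfLe le_normalizer).toEquiv, hQ₀c]
  have hidx : (Q₀.subgroupOf N₀).index = k - 1 := by
    have h := card_mul_index (Q₀.subgroupOf N₀)
    rw [hQ₀sub, hnorm g hg h0, mul_comm (k - 1)] at h
    exact Nat.eq_of_mul_eq_mul_left (by omega) h
  obtain ⟨C, hC⟩ := Subgroup.exists_right_complement'_of_coprime (N := Q₀.subgroupOf N₀)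
    (by rw [hQ₀sub, hidx]; exact hcop1)
  set X := C.map N₀.subtype with hX
  have hXc : Nat.card X = k - 1 := by
    rw [hX, card_map_of_injective N₀.subtype_injective, ← hidx]
    exact (hC.symm.index_eq_card).symm
  have hXcomm := M.comm_of_dvd S hout (X := X) (by rw [hXc])
  have hXN : X ≤ N₀ := map_subtype_le C
  obtain ⟨x, hxX, hx1⟩ := exists_ne_one (X := X) (fun h => by
    rw [h, Subgroup.card_bot] at hXc; omega)
  obtain ⟨z, hz⟩ := hout x ((Subgroup.orderOf_dvd_natCard X hxX).trans (by rw [hXc])) hx1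
  have hconjX : ∀ y, z * y * z⁻¹ ∈ A → y ∈ X := by
    have hle : X ≤ Subgroup.centralizer ({x} : Set G) := fun y hy => by
      rw [mem_centralizer_singleton_iff]
      have h1 : (⁅(⟨y, hy⟩ : X), (⟨x, hxX⟩ : X)⁆ : X) = 1 := by
        rw [← Subgroup.mem_bot, ← hXcomm]
        exact Subgroup.commutator_mem_commutator (mem_top _) (mem_top _)
      exact congrArg Subtype.val (commutatorElement_eq_one_iff_mul_comm.1 h1)
    have heq : X = Subgroup.centralizer ({x} : Set G) := by
      refine eq_of_le_of_card_ge hle ?_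
      rw [hXc, ← hAcard]
      refine Nat.card_le_card_of_injective
        (fun y : Subgroup.centralizer ({x} : Set G) => (⟨_, (S.conj_eq hz hx1 y).1 y.2⟩ : A))
        fun a b h => ?_
      exact Subtype.ext (mul_left_cancel (mul_right_cancel (congrArg Subtype.val h)))
    intro y hy
    rw [heq]; exact (S.conj_eq hz hx1 y).2 hy
  -- move the complement onto the second torus
  set g' := z * g * z⁻¹ with hg'
  have hg'o : ¬ InConj D.K g' := fun h => hg (inConj_iff_of_eq.1 h)
  have hg'0 : E.psi g' = 0 := by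
    rw [hg', IsGeneralized.isClassFunction (signed_isGeneralized E.psi_s) g z, h0]
  obtain ⟨hTI, -⟩ := M.centralizer_zero S hg'o hg'0
  set Q := Subgroup.centralizer ({g'} : Set G) with hQ
  have hQc : Nat.card Q = 2 * k - 1 := (M.zero_facts S hg'o hg'0).2.2.1
  have hAN : A ≤ Subgroup.normalizer (Q : Set G) := by
    intro e he
    have he' : z⁻¹ * e * z ∈ N₀ := hXN (hconjX _ (by
      rwa [show z * (z⁻¹ * e * z) * z⁻¹ = e by group]))
    have h1 := conj_mem_centralizer (z := z)
      ((mem_normalizer_iff.1 he' g).1 (mem_centralizer_singleton_iff.2 rfl))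
    rw [show z * (z⁻¹ * e * z * g * (z⁻¹ * e * z)⁻¹) * z⁻¹ = e * g' * e⁻¹ by rw [hg']; group,
      ← hg'] at h1
    exact mem_normalizer_of_conj hTI (mem_centralizer_singleton_iff.2 rfl)
      (ne_one_of_not_inConj hg'o) h1
  have hQA : Q ⊓ A = ⊥ := inf_eq_bot_of_coprime (by rw [hQc, hAcard]; exact hcop1)
  have hNeq : Subgroup.normalizer (Q : Set G) = Q ⊔ A := by
    refine (eq_of_le_of_card_ge (sup_le le_normalizer hAN) ?_).symm
    rw [hnorm g' hg'o hg'0]
    refine Nat.le_of_dvd Nat.card_pos (hcop1.symm.mul_dvd_of_dvd_of_dvd ?_ ?_)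
    · rw [← hAcard]; exact card_dvd_of_le le_sup_right
    · rw [← hQc]; exact card_dvd_of_le le_sup_left
  have hAcomm : IsMulCommutative A := ⟨⟨fun a b => Subtype.ext (S.dih.comm a a.2 b b.2)⟩⟩
  refine ⟨Q, A, ?_, hTI, hAcomm, ?_, hQA, hNeq, fun Y hY hY1 => ⟨?_, D.t, D.ht, S.dih.not_mem,
    S.dih.inverts, S.normalizer⟩⟩
  · rw [hQc, M.card_G, ← hk, show 2 * k - 1 + 1 = 2 * k by omega,
      show 2 * k - 1 - 1 = 2 * (k - 1) by omega]
    ring
  · rw [hQc, hAcard]; omega
  · obtain ⟨y, hy, hy1⟩ := exists_ne_one hY1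
    refine le_antisymm (fun w hw => mem_normalizer_of_conj S.centralizer (hY hy) hy1
      (hY ((mem_normalizer_iff.1 hw y).1 hy))) fun w hw => ?_
    have hfix : ∀ w ∈ Subgroup.normalizer (A : Set G), ∀ b ∈ Y, w * b * w⁻¹ ∈ Y := by
      intro w hw b hb
      have htN : D.t ∈ Subgroup.normalizer (A : Set G) := by
        rw [S.normalizer]; exact mem_sup_right (mem_zpowers _)
      have hw' := hw
      rw [S.normalizer] at hw'
      rcases mem_sup_t htN hw' with h | h
      · rw [S.dih.comm w h b (hY hb), mul_inv_cancel_right]; exact hb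
      · have e : w * b * w⁻¹ = b⁻¹ := by
          calc w * b * w⁻¹ = (w * D.t) * (D.t * b * D.t⁻¹) * (w * D.t)⁻¹ := by
                rw [mul_inv_rev, D.t_inv]
                calc w * b * w⁻¹ = w * (D.t * D.t) * b * (D.t * D.t) * w⁻¹ := by
                      rw [D.t_sq, mul_one, mul_one]
                  _ = _ := by group
            _ = b⁻¹ := by
                rw [S.dih.inverts b (hY hb), S.dih.comm _ h _ (inv_mem (hY hb)), mul_inv_cancel_right]
        rw [e]; exact inv_mem hb
    refine mem_normalizer_iff.2 fun b => ⟨hfix w hw b, fun hb => ?_⟩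
    have h := hfix w⁻¹ (inv_mem hw) _ hb
    rwa [show w⁻¹ * (w * b * w⁻¹) * w⁻¹⁻¹ = b by group] at h

end Data.Exc

end CfsgLib.Wall
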