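import Cfsg.Agent.Wall.Local
import Cfsg.Agent.Recog3222.Small

/-!
The case where the centralizer of the involution is a four group.
-/

set_option autoImplicit false
set_option linter.unusedSectionVars false
set_option linter.style.haveILetI false
set_option linter.deprecated false

namespace CfsgLib.Wall

open Subgroup
open scoped Pointwise

universe u

namespace Data

variable {G : Type u} [Group G] [Fintype G] (D : Data G)

theorem H_sq (hk : Nat.card D.K = 2) {x : G} (hx : x ∈ centralizer ({D.t} : Set G)) : x * x = 1 := by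
  by_cases h : x ∈ D.K
  · have h1 : (⟨x, h⟩ : D.K) ^ 2 = 1 := by rw [← hk]; exact pow_card_eq_one'
    rw [sq] at h1
    exact congrArg Subtype.val h1
  · exact (D.outside hx h).1

theorem fourHyp (hk : Nat.card D.K = 2) :
    CfsgLib.S3222.FourHyp (centralizer ({D.t} : Set G)) D.t := by
  haveI : Fact (Nat.Prime 2) := ⟨Nat.prime_two⟩
  set H := centralizer ({D.t} : Set G) with hH
  have hH4 : Nat.card H = 4 := by rw [hH, D.card_H, hk]
  refine ⟨hH4, fun w hw => D.H_sq hk hw, mem_centralizer_singleton_iff.2 rfl, D.t_ne_one, rfl,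
    fun w hw hw1 => D.hconj _ _ D.ht (orderOf_two (D.H_sq hk hw) hw1), ?_⟩
  have hHp : IsPGroup 2 H := IsPGroup.iff_card.2 ⟨2, by rw [hH4]; norm_num⟩
  obtain ⟨P, hP⟩ := hHp.exists_le_sylow
  haveI : Nontrivial (P : Subgroup G) := ⟨⟨⟨D.t, hP (mem_centralizer_singleton_iff.2 rfl)⟩, 1,
    fun e => D.t_ne_one (congrArg Subtype.val e)⟩⟩
  haveI := P.2.center_nontrivial
  have hcenter : 2 ∣ Nat.card (Subgroup.center (P : Subgroup G)) :=
    ((P.2.to_subgroup _).card_eq_or_dvd).resolve_left Finite.one_lt_card.ne'
  obtain ⟨z, hz⟩ := exists_prime_orderOf_dvd_card' 2 hcenter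
  set z' : G := ((z : (P : Subgroup G)) : G) with hz'
  have hz2 : orderOf z' = 2 := by rw [hz', Subgroup.orderOf_coe, Subgroup.orderOf_coe, hz]
  have hPc : (P : Subgroup G) ≤ centralizer ({z'} : Set G) := fun x hx =>
    mem_centralizer_singleton_iff.2
      (congrArg Subtype.val (Subgroup.mem_center_iff.1 z.2 ⟨x, hx⟩))
  obtain ⟨g, hg⟩ := isConj_iff.1 (D.hconj z' D.t hz2 D.ht)
  have hle : Nat.card (P : Subgroup G) ≤ Nat.card H := by
    refine Nat.card_le_card_of_injective
      (fun x : (P : Subgroup G) => (⟨g * x * g⁻¹, ?_⟩ : H)) fun a b h => ?_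
    · rw [hH, ← hg]; exact conj_mem_centralizer (hPc x.2)
    · exact Subtype.ext (mul_left_cancel (mul_right_cancel (congrArg Subtype.val h)))
  have hPH : H = P := eq_of_le_of_card_ge hP hle
  rw [← Nat.not_even_iff_odd, hPH]
  exact fun h => P.not_dvd_index h.two_dvd

/-- The centralizer of an element of odd prime order has odd order. -/
theorem odd_card_centralizer (hk : Nat.card D.K = 2) {x : G} {r : ℕ} (hr : r.Prime) (hr2 : r ≠ 2)
    (hx : orderOf x = r) : Odd (Nat.card (centralizer ({x} : Set G))) := by
  haveI : Fact (Nat.Prime 2) := ⟨Nat.prime_two⟩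
  rw [← Nat.not_even_iff_odd]
  intro h
  obtain ⟨⟨v, hv⟩, hv2⟩ := exists_prime_orderOf_dvd_card' (G := centralizer ({x} : Set G)) 2 h.two_dvd
  rw [Subgroup.orderOf_mk] at hv2
  obtain ⟨g, hg⟩ := isConj_iff.1 (D.hconj v D.t hv2 D.ht)
  have hgx : g * x * g⁻¹ ∈ centralizer ({D.t} : Set G) := by
    rw [← hg]
    exact conj_mem_centralizer
      (mem_centralizer_singleton_iff.2 (mem_centralizer_singleton_iff.1 hv).symm)
  have h4 := Subgroup.orderOf_dvd_natCard _ hgx
  rw [show g * x * g⁻¹ = MulAut.conj g x from rfl, MulEquiv.orderOf_eq, hx, D.card_H, hk] at h4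
  exact hr2 ((Nat.prime_dvd_prime_iff_eq hr Nat.prime_two).1 (hr.dvd_of_dvd_pow (n := 2) (by simpa using h4)))

theorem concl_two (hk : Nat.card D.K = 2) : Concl G := by
  classical
  haveI : Fact (Nat.Prime 2) := ⟨Nat.prime_two⟩
  have F := D.fourHyp hk
  set H := centralizer ({D.t} : Set G) with hH
  have hH4 : Nat.card H = 4 := F.card_four
  obtain ⟨c, hc⟩ := isConj_iff.1 (D.hconj D.t D.s D.ht D.hs)
  have hts : D.t ≠ D.s := fun e => D.hsK (e ▸ D.htK)
  have hcH : c ∉ H := fun h => hts (by
    rw [← hc, D.mem_H.1 h, mul_inv_cancel_right])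
  have hcN : c ∈ normalizer (H : Set G) := by
    have hsH : D.s ∈ H := D.hsH
    have hs1 : D.s ≠ 1 := fun e => D.hsK (e ▸ one_mem _)
    exact mem_normalizer_of_conj (fun w hw hw1 => F.centralizer_of hw hw1) F.mem F.ne_one
      (by rw [hc]; exact hsH)
  rcases F.card_cases hcN hcH with hG | ⟨hG, hperf⟩
  · -- order twelve
    haveI : Fact (Nat.Prime 3) := ⟨Nat.prime_three⟩
    obtain ⟨x, hx⟩ := exists_prime_orderOf_dvd_card' (G := G) 3 (by rw [hG]; norm_num)
    have hcent : ∀ y : G, orderOf y = 3 → centralizer ({y} : Set G) = zpowers y := by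
      intro y hy
      refine (eq_of_le_of_card_ge (zpowers_le.2 (mem_centralizer_singleton_iff.2 rfl)) ?_).symm
      rw [Nat.card_zpowers, hy]
      obtain ⟨m, hm⟩ := D.odd_card_centralizer hk Nat.prime_three (by norm_num) hy
      have hd := card_subgroup_dvd_card (centralizer ({y} : Set G))
      rw [hG, hm] at hd
      rw [hm]
      have := Nat.le_of_dvd (by norm_num) hd
      have hm' : m ≤ 5 := by omega
      interval_cases m <;> omega
    have hQc : Nat.card (zpowers x) = 3 := by rw [Nat.card_zpowers, hx]
    have hgen : ∀ y ∈ zpowers x, y ≠ 1 → orderOf y = 3 ∧ zpowers y = zpowers x := by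
      intro y hy hy1
      have h1 := Subgroup.orderOf_dvd_natCard _ hy
      rw [hQc] at h1
      have h3 := (((Nat.dvd_prime Nat.prime_three).1 h1).resolve_left fun e => hy1 (orderOf_eq_one_iff.1 e))
      exact ⟨h3, eq_of_le_of_card_ge (zpowers_le.2 hy) (by rw [hQc, Nat.card_zpowers, h3])⟩
    refine ⟨zpowers x, ⊥, ?_, fun y hy hy1 => ?_, inferInstance, ?_, inf_bot_eq _, ?_, ?_⟩
    · rw [hQc, hG]
    · rw [hcent y (hgen y hy hy1).1, (hgen y hy hy1).2]
    · rw [hQc, Subgroup.card_bot]
    · rw [sup_bot_eq]
      refine le_antisymm (fun n hn => ?_) le_normalizer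
      by_contra hnQ
      have hxn : n * x * n⁻¹ ∈ zpowers x := (mem_normalizer_iff.1 hn x).1 (mem_zpowers x)
      -- a normalizing element outside is an inverting involution
      set Nx := normalizer ((zpowers x : Subgroup G) : Set G) with hNx
      have hidx : Nx.index ≠ 1 := by
        intro h1
        rw [Subgroup.index_eq_one] at h1
        have hinv : ∀ w ∈ H, w ≠ 1 → w * x * w⁻¹ = x⁻¹ := by
          intro w hw hw1
          have hwx : w * x * w⁻¹ ∈ zpowers x :=
            (mem_normalizer_iff.1 (show w ∈ Nx by rw [h1]; exact mem_top _) x).1 (mem_zpowers x)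
          obtain ⟨i, hi⟩ := mem_zpowers_iff.1 hwx
          rw [← zpow_mod_orderOf, hx] at hi
          have h0 : (0 : ℤ) ≤ i % (3 : ℕ) ∧ i % (3 : ℕ) < 3 := ⟨Int.emod_nonneg _ (by norm_num),
            Int.emod_lt_of_pos _ (by norm_num)⟩
          have hx1 : x ≠ 1 := fun e => by rw [e, orderOf_one] at hx; norm_num at hx
          obtain hj | hj | hj : i % (3 : ℕ) = 0 ∨ i % (3 : ℕ) = 1 ∨ i % (3 : ℕ) = 2 := by omega
          · rw [hj, zpow_zero] at hi
            exact absurd (conj_eq_one_iff.1 hi.symm) hx1
          · rw [hj, zpow_one] at hi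
            have hwc : w ∈ centralizer ({x} : Set G) :=
              mem_centralizer_singleton_iff.2 (mul_inv_eq_iff_eq_mul.1 hi.symm)
            rw [hcent x hx] at hwc
            obtain ⟨h3, -⟩ := hgen w hwc hw1
            have h2 := orderOf_two (D.H_sq hk hw) hw1
            omega
          · rw [hj, show (2 : ℤ) = (2 : ℕ) by norm_num, zpow_natCast] at hi
            rw [← hi]
            refine eq_inv_of_mul_eq_one_left ?_
            rw [← pow_succ, show (2 : ℕ) + 1 = orderOf x by rw [hx], pow_orderOf_eq_one]
        have hsH : D.s ∈ H := D.hsH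
        have hs1 : D.s ≠ 1 := fun e => D.hsK (e ▸ one_mem _)
        have hts1 : D.t * D.s ≠ 1 := fun e => hts (by
          rw [eq_inv_of_mul_eq_one_left e, inv_eq_of_mul_eq_one_right D.s_sq])
        have e1 := hinv _ (mul_mem F.mem hsH) hts1
        have e2 : D.t * D.s * x * (D.t * D.s)⁻¹ = x := by
          calc D.t * D.s * x * (D.t * D.s)⁻¹ = D.t * (D.s * x * D.s⁻¹) * D.t⁻¹ := by group
            _ = (D.t * x * D.t⁻¹)⁻¹ := by rw [hinv _ hsH hs1]; group
            _ = x := by rw [hinv _ F.mem F.ne_one, inv_inv]
        rw [e2] at e1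
        have : orderOf x ∣ 2 := orderOf_dvd_of_pow_eq_one (by rw [sq]; exact mul_eq_one_iff_eq_inv.2 e1)
        rw [hx] at this
        norm_num at this
      obtain ⟨P⟩ : Nonempty (Sylow 3 G) := Sylow.nonempty
      have hPs : ¬ 3 ∣ (zpowers x).index := by
        have := card_mul_index (zpowers x)
        rw [hQc, hG] at this
        intro h
        obtain ⟨m, hm⟩ := h
        omega
      let S : Sylow 3 G := (IsPGroup.iff_card.2 ⟨1, by rw [hQc, pow_one]⟩ :
        IsPGroup 3 (zpowers x)).toSylow hPs
      have hn3 := Sylow.card_eq_index_normalizer S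
      have hmod := card_sylow_modEq_one 3 G
      have hd : Nat.card (Sylow 3 G) ∣ 4 := by
        have := S.card_dvd_index
        have e := card_mul_index (zpowers x)
        rw [hQc, hG] at e
        have e' : (S : Subgroup G).index = 4 := by
          show (zpowers x).index = 4
          omega
        rwa [e'] at this
      have hS1 : Nat.card (Sylow 3 G) = Nx.index := hn3
      have h4 : Nat.card (Sylow 3 G) = 4 := by
        have h0 : Nat.card (Sylow 3 G) ≠ 1 := hS1 ▸ hidx
        have := Nat.le_of_dvd (by norm_num) hd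
        unfold Nat.ModEq at hmod
        interval_cases h : Nat.card (Sylow 3 G) <;> omega
      have hle : Nx = zpowers x := by
        refine (eq_of_le_of_card_ge le_normalizer ?_).symm
        have e := card_mul_index Nx
        rw [← hS1, h4, hG] at e
        show Nat.card Nx ≤ _
        rw [hQc]; omega
      exact hnQ (hle ▸ hn)
    · exact fun X hX hX1 => absurd (le_bot_iff.1 hX) hX1
  · -- order sixty
    haveI : Fact (Nat.Prime 5) := ⟨by norm_num⟩
    obtain ⟨x, hx⟩ := exists_prime_orderOf_dvd_card' (G := G) 5 (by rw [hG]; norm_num)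
    have hQc : Nat.card (zpowers x) = 5 := by rw [Nat.card_zpowers, hx]
    have hcent : ∀ y : G, orderOf y = 5 → centralizer ({y} : Set G) = zpowers y ∧
        Nat.card (normalizer ((zpowers y : Subgroup G) : Set G)) = 10 := by
      intro y hy
      have hyc : Nat.card (zpowers y) = 5 := by rw [Nat.card_zpowers, hy]
      have hidx : (zpowers y).index = 12 := by
        have e := card_mul_index (zpowers y)
        rw [hyc, hG] at e; omega
      let S : Sylow 5 G := (IsPGroup.iff_card.2 ⟨1, by rw [hyc, pow_one]⟩ :
        IsPGroup 5 (zpowers y)).toSylow (by rw [hidx]; norm_num)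
      have hd : Nat.card (Sylow 5 G) ∣ 12 := by
        have h := S.card_dvd_index
        rwa [show (S : Subgroup G).index = 12 from hidx] at h
      have hmod := card_sylow_modEq_one 5 G
      set Ny := normalizer ((zpowers y : Subgroup G) : Set G) with hNy
      have hcN : centralizer ({y} : Set G) ≤ Ny := by
        rw [← centralizer_closure, ← zpowers_eq_closure]
        exact centralizer_le_normalizer _
      have hn : Nat.card (Sylow 5 G) = 1 ∨ Nat.card (Sylow 5 G) = 6 := by
        have := Nat.le_of_dvd (by norm_num) hd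
        unfold Nat.ModEq at hmod
        interval_cases h : Nat.card (Sylow 5 G) <;> omega
      have h6 : Nat.card (Sylow 5 G) = 6 := by
        refine hn.resolve_left fun h1 => ?_
        have htop : Ny = ⊤ := by
          rw [← Subgroup.index_eq_one, ← h1]
          exact (Sylow.card_eq_index_normalizer S).symm
        haveI : (zpowers y).Normal := normalizer_eq_top_iff.1 htop
        -- the conjugation action on a group of order five is abelian
        have hcomm : commutator G ≤ centralizer ({y} : Set G) := by
          rw [_root_.commutator_def, Subgroup.commutator_le]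
          intro a _ b _
          have ha : a * y * a⁻¹ ∈ zpowers y := Subgroup.Normal.conj_mem ‹_› y (mem_zpowers y) a
          have hb : b * y * b⁻¹ ∈ zpowers y := Subgroup.Normal.conj_mem ‹_› y (mem_zpowers y) b
          obtain ⟨i, hi⟩ := mem_zpowers_iff.1 ha
          obtain ⟨j, hj⟩ := mem_zpowers_iff.1 hb
          have key : ∀ (g : G) (m n : ℤ), g * y * g⁻¹ = y ^ m → g * y ^ n * g⁻¹ = y ^ (m * n) := by
            intro g m n h
            rw [zpow_mul, ← h, conj_zpow]
          have e1 : a * b * y * (a * b)⁻¹ = b * a * y * (b * a)⁻¹ := by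
            calc a * b * y * (a * b)⁻¹ = a * (b * y * b⁻¹) * a⁻¹ := by group
              _ = y ^ (i * j) := by rw [← hj, key a i j hi.symm]
              _ = b * (a * y * a⁻¹) * b⁻¹ := by rw [← hi, key b j i hj.symm, mul_comm i j]
              _ = _ := by group
          refine mem_centralizer_singleton_iff.2 (mul_inv_eq_iff_eq_mul.1 ?_)
          rw [commutatorElement_def]
          calc a * b * a⁻¹ * b⁻¹ * y * (a * b * a⁻¹ * b⁻¹)⁻¹ =
                a * b * ((b * a)⁻¹ * y * (b * a)) * (a * b)⁻¹ := by group
            _ = y := by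
              have h1 : (b * a)⁻¹ * y * (b * a) ∈ zpowers y := by
                have := Subgroup.Normal.conj_mem ‹_› y (mem_zpowers y) (b * a)⁻¹
                rwa [inv_inv] at this
              obtain ⟨m, hm⟩ := mem_zpowers_iff.1 h1
              calc a * b * ((b * a)⁻¹ * y * (b * a)) * (a * b)⁻¹ = a * b * y ^ m * (a * b)⁻¹ := by
                    rw [hm]
                _ = (a * b * y * (a * b)⁻¹) ^ m := conj_zpow.symm
                _ = (b * a * y * (b * a)⁻¹) ^ m := by rw [e1]
                _ = b * a * y ^ m * (b * a)⁻¹ := conj_zpow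
                _ = y := by rw [hm]; group
        rw [hperf, top_le_iff] at hcomm
        obtain ⟨m, hm⟩ := D.odd_card_centralizer hk (by norm_num) (by norm_num) hy
        rw [hcomm, Subgroup.card_top, hG] at hm
        omega
      have hN10 : Nat.card Ny = 10 := by
        have e := card_mul_index Ny
        rw [hG, show Ny.index = 6 by rw [← h6]; exact (Sylow.card_eq_index_normalizer S).symm] at e
        omega
      refine ⟨?_, hN10⟩
      refine (eq_of_le_of_card_ge (zpowers_le.2 (mem_centralizer_singleton_iff.2 rfl)) ?_).symm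
      have h1 := card_dvd_of_le hcN
      obtain ⟨m, hm⟩ := D.odd_card_centralizer hk (by norm_num) (by norm_num) hy
      rw [hm, hN10] at h1
      rw [hyc, hm]
      have := Nat.le_of_dvd (by norm_num) h1
      have hm' : m ≤ 4 := by omega
      interval_cases m <;> omega
    have hgen : ∀ y ∈ zpowers x, y ≠ 1 → orderOf y = 5 ∧ zpowers y = zpowers x := by
      intro y hy hy1
      have h1 := Subgroup.orderOf_dvd_natCard _ hy
      rw [hQc] at h1
      have h5 := (((Nat.dvd_prime (by norm_num : Nat.Prime 5)).1 h1).resolve_left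
        fun e => hy1 (orderOf_eq_one_iff.1 e))
      exact ⟨h5, eq_of_le_of_card_ge (zpowers_le.2 hy) (by rw [hQc, Nat.card_zpowers, h5])⟩
    set N := normalizer ((zpowers x : Subgroup G) : Set G) with hN
    have hN10 := (hcent x hx).2
    obtain ⟨⟨v, hvN⟩, hv⟩ := exists_prime_orderOf_dvd_card' (G := N) 2 (by rw [hN10]; norm_num)
    rw [Subgroup.orderOf_mk] at hv
    have hvc : Nat.card (zpowers v) = 2 := by rw [Nat.card_zpowers, hv]
    have hinf : zpowers x ⊓ zpowers v = ⊥ := inf_eq_bot_of_coprime (by rw [hQc, hvc]; norm_num)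
    refine ⟨zpowers x, zpowers v, ?_, fun y hy hy1 => ?_, inferInstance, ?_, hinf, ?_, ?_⟩
    · rw [hQc, hG]
    · rw [(hcent y (hgen y hy hy1).1).1, (hgen y hy hy1).2]
    · rw [hQc, hvc]
    · refine (eq_of_le_of_card_ge (sup_le le_normalizer (zpowers_le.2 hvN)) ?_).symm
      rw [hN10]
      refine Nat.le_of_dvd Nat.card_pos ((show Nat.Coprime 5 2 by norm_num).mul_dvd_of_dvd_of_dvd ?_ ?_)
      · rw [← hQc]; exact card_dvd_of_le le_sup_left
      · rw [← hvc]; exact card_dvd_of_le le_sup_right
    · intro X hX hX1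
      have hXv : X = zpowers v := by
        refine eq_of_le_of_card_ge hX ?_
        rw [hvc]
        rcases (Nat.dvd_prime Nat.prime_two).1 (hvc ▸ card_dvd_of_le hX) with h | h
        · exact absurd (Subgroup.card_eq_one.1 h) hX1
        · rw [h]
      refine ⟨by rw [hXv], ?_⟩
      -- conjugate the four group to `v`
      obtain ⟨g, hg⟩ := isConj_iff.1 (D.hconj D.t v D.ht hv)
      set u := g * D.s * g⁻¹ with hu
      have hu2 : orderOf u = 2 := by
        rw [hu, show g * D.s * g⁻¹ = MulAut.conj g D.s from rfl, MulEquiv.orderOf_eq, D.hs]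
      have huv : u * v = v * u := by rw [hu, ← hg]; exact conj_commute (D.mem_H.1 D.hsH) g
      have hu_ne : u ∉ zpowers v := by
        intro h
        have hu1 : u ≠ 1 := fun e => by rw [e, orderOf_one] at hu2; norm_num at hu2
        have hzu : zpowers u = zpowers v := eq_of_le_of_card_ge (zpowers_le.2 h)
          (by rw [hvc, Nat.card_zpowers, hu2])
        obtain ⟨i, hi⟩ := mem_zpowers_iff.1 h
        rw [← zpow_mod_orderOf, hv] at hi
        obtain hj | hj : i % (2 : ℕ) = 0 ∨ i % (2 : ℕ) = 1 := by omega
        · rw [hj, zpow_zero] at hi; exact hu1 hi.symm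
        · rw [hj, zpow_one, hu, ← hg] at hi
          exact hts (mul_left_cancel (mul_right_cancel hi))
      refine ⟨u, hu2, hu_ne, fun d hd => ?_, ?_⟩
      · obtain ⟨i, rfl⟩ := mem_zpowers_iff.1 hd
        rw [← conj_zpow, huv, mul_inv_cancel_right, ← inv_zpow,
          inv_eq_of_mul_eq_one_right (show v * v = 1 by rw [← sq, ← hv, pow_orderOf_eq_one])]
      · have hnorm : normalizer ((zpowers v : Subgroup G) : Set G) = centralizer ({v} : Set G) := by
          refine le_antisymm (fun w hw => ?_) ?_
          · have h := (mem_normalizer_iff.1 hw v).1 (mem_zpowers v)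
            obtain ⟨i, hi⟩ := mem_zpowers_iff.1 h
            rw [← zpow_mod_orderOf, hv] at hi
            obtain hj | hj : i % (2 : ℕ) = 0 ∨ i % (2 : ℕ) = 1 := by omega
            · rw [hj, zpow_zero] at hi
              have hv1 := conj_eq_one_iff.1 hi.symm
              rw [hv1, orderOf_one] at hv; norm_num at hv
            · rw [hj, zpow_one] at hi
              exact mem_centralizer_singleton_iff.2 (mul_inv_eq_iff_eq_mul.1 hi.symm)
          · rw [← centralizer_closure, ← zpowers_eq_closure]
            exact centralizer_le_normalizer _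
        have hle : zpowers v ⊔ zpowers u ≤ centralizer ({v} : Set G) := sup_le
          (zpowers_le.2 (mem_centralizer_singleton_iff.2 rfl))
          (zpowers_le.2 (mem_centralizer_singleton_iff.2 huv))
        rw [hnorm]
        refine (eq_of_le_of_card_ge hle ?_).symm
        have h4 : Nat.card (centralizer ({v} : Set G)) ≤ 4 := by
          rw [← hH4]
          refine Nat.card_le_card_of_injective
            (fun y : centralizer ({v} : Set G) => (⟨g⁻¹ * y * g, ?_⟩ : H)) fun a b h => ?_
          · have := conj_mem_centralizer (z := g⁻¹) y.2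
            rwa [inv_inv, show g⁻¹ * v * g = D.t by rw [← hg]; group, ← hH] at this
          · exact Subtype.ext (mul_left_cancel (mul_right_cancel (congrArg Subtype.val h)))
        refine h4.trans ?_
        have hlt : zpowers v < zpowers v ⊔ zpowers u := lt_of_le_of_ne le_sup_left fun e =>
          hu_ne (e ▸ mem_sup_right (mem_zpowers u))
        have hd := card_dvd_of_le (le_sup_left : zpowers v ≤ zpowers v ⊔ zpowers u)
        rw [hvc] at hd
        have hne : Nat.card (zpowers v ⊔ zpowers u : Subgroup G) ≠ 2 := fun e =>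
          hlt.ne (eq_of_le_of_card_ge le_sup_left (by rw [e, hvc]))
        have hpos : 0 < Nat.card (zpowers v ⊔ zpowers u : Subgroup G) := Nat.card_pos
        omega

end Data

end CfsgLib.Wall
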