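import Cfsg.Agent.Char.Induction
import Cfsg.Agent.Char.Linear
import Cfsg.Agent.Char.Generalized

/-!
An abelian trivial intersection subgroup inverted by an element of its normalizer: the functions
induced from `1 - λ`.
-/

set_option autoImplicit false
set_option linter.unusedSectionVars false
set_option linter.style.haveILetI false

namespace CfsgLib.Wall

open CfsgLib.Char
open scoped ComplexConjugate

universe u

variable {G : Type u} [Group G]

/-- `A` is abelian, `w` inverts it and conjugation meets `A` only inside `A⟨w⟩`. -/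
structure Dih (A : Subgroup G) (w : G) : Prop where
  comm : ∀ a ∈ A, ∀ b ∈ A, a * b = b * a
  inverts : ∀ a ∈ A, w * a * w⁻¹ = a⁻¹
  not_mem : w ∉ A
  ti : ∀ a ∈ A, a ≠ 1 → ∀ g, g * a * g⁻¹ ∈ A → g ∈ A ∨ g * w ∈ A

/-- `g` has a conjugate in `A`. -/
def InConj (A : Subgroup G) (g : G) : Prop := ∃ x : G, x * g * x⁻¹ ∈ A

theorem conj_hom_apply {X : Type u} [Group X] [Finite X] (lam : X →* ℂˣ) (x : X) :
    conj (lam x : ℂ) = (lam x⁻¹ : ℂ) :=
  (IsIrrCharacter.apply_inv (isIrrCharacter_ofHom lam) x).symm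

theorem sum_hom {X : Type u} [Group X] [Fintype X] (lam : X →* ℂˣ) [Decidable (lam = 1)] :
    ∑ x : X, (lam x : ℂ) = if lam = 1 then (Nat.card X : ℂ) else 0 := by
  split_ifs with h
  · simp [h]
  · obtain ⟨y, hy⟩ : ∃ y, lam y ≠ 1 := by
      by_contra hall
      push Not at hall
      exact h (MonoidHom.ext hall)
    have hsum : (lam y : ℂ) * ∑ x : X, (lam x : ℂ) = ∑ x : X, (lam x : ℂ) := by
      rw [Finset.mul_sum]
      exact Fintype.sum_equiv (Equiv.mulLeft y) _ _ fun x => by simp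
    have h1 : ((lam y : ℂ) - 1) * ∑ x : X, (lam x : ℂ) = 0 := by linear_combination hsum
    exact (mul_eq_zero.1 h1).resolve_left (sub_ne_zero.2 fun e => hy (Units.ext e))

section

variable {A : Subgroup G} {w : G}

theorem commutator_eq_bot (E : Dih A w) : commutator A = ⊥ := by
  rw [commutator_def, Subgroup.commutator_eq_bot_iff_le_centralizer]
  intro a _
  exact Subgroup.mem_centralizer_iff.2 fun b _ => Subtype.ext (E.comm b b.2 a a.2)

theorem card_dual [Finite G] (E : Dih A w) : Nat.card (A →* ℂˣ) = Nat.card A := by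
  rw [card_hom_eq_index_commutator, commutator_eq_bot E, Subgroup.index_bot]

/-- The characters of degree one of `A` form a finite type. -/
noncomputable def dualFintype [Finite G] (E : Dih A w) : Fintype (A →* ℂˣ) :=
  haveI : Finite (A →* ℂˣ) := Nat.finite_of_card_ne_zero
    ((card_dual E).trans_ne Nat.card_pos.ne')
  Fintype.ofFinite _

variable [Fintype (A →* ℂˣ)]

theorem sum_dual [Finite G] (E : Dih A w) (a : A) [Decidable (a = 1)] :
    ∑ lam : A →* ℂˣ, (lam a : ℂ) = if a = 1 then (Nat.card A : ℂ) else 0 := by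
  split_ifs with h
  · subst h
    rw [← card_dual E, Nat.card_eq_fintype_card]
    simp
  · obtain ⟨mu, hmu⟩ := exists_hom_ne_one (g := a) (by rwa [commutator_eq_bot E, Subgroup.mem_bot])
    have hsum : (mu a : ℂ) * ∑ lam : A →* ℂˣ, (lam a : ℂ) = ∑ lam : A →* ℂˣ, (lam a : ℂ) := by
      rw [Finset.mul_sum]
      exact Fintype.sum_equiv (Equiv.mulLeft mu) _ _ fun lam => by simp
    have h1 : ((mu a : ℂ) - 1) * ∑ lam : A →* ℂˣ, (lam a : ℂ) = 0 := by linear_combination hsum
    exact (mul_eq_zero.1 h1).resolve_left (sub_ne_zero.2 fun e => hmu (Units.ext e))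

end

section Induced

variable [Fintype G] {A : Subgroup G} {w : G}

theorem apply_inv_eq (E : Dih A w) {h : G → ℂ} (hh : Cfsg.IsClassFunction G h) {a : G}
    (ha : a ∈ A) : h a⁻¹ = h a := by
  rw [← E.inverts a ha, hh]

/-- The value of an induced function at a non-identity element of `A`. -/
theorem indFun_apply_mem (E : Dih A w) (u : A → ℂ) (a : A) (ha : a ≠ 1) :
    Cfsg.indFun A u a = u a + u a⁻¹ := by
  classical
  have key : ∀ x : G, Cfsg.extendByZero A u (x⁻¹ * a * x) =
      (if x ∈ A then u a else 0) + (if w⁻¹ * x ∈ A then u a⁻¹ else 0) := by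
    intro x
    by_cases h1 : x ∈ A
    · have h2 : ¬ w⁻¹ * x ∈ A := fun h => E.not_mem (by
        have := A.mul_mem h1 (A.inv_mem h)
        rw [mul_inv_rev, inv_inv, mul_inv_cancel_left] at this
        exact this)
      have hx : x⁻¹ * a * x = a := by
        rw [mul_assoc, E.comm a a.2 x h1, inv_mul_cancel_left]
      rw [if_pos h1, if_neg h2, add_zero, hx, extendByZero_apply]
    by_cases h2 : w⁻¹ * x ∈ A
    · have hw : w⁻¹ * (a : G) * w = (a : G)⁻¹ := by
        have h := E.inverts _ (A.inv_mem a.2)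
        rw [inv_inv] at h
        calc w⁻¹ * (a : G) * w = w⁻¹ * (w * (a : G)⁻¹ * w⁻¹) * w := by rw [h]
          _ = _ := by group
      have hx : x⁻¹ * a * x = ((a⁻¹ : A) : G) := by
        calc x⁻¹ * (a : G) * x = (w⁻¹ * x)⁻¹ * (w⁻¹ * (a : G) * w) * (w⁻¹ * x) := by group
          _ = _ := by
            rw [hw, mul_assoc, E.comm _ (A.inv_mem a.2) _ h2, inv_mul_cancel_left]
            rfl
      rw [if_neg h1, if_pos h2, zero_add, hx, extendByZero_apply]
    · rw [if_neg h1, if_neg h2, add_zero]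
      refine extendByZero_of_not_mem _ fun hm => ?_
      rcases E.ti a a.2 (by simpa using ha) x⁻¹ (by simpa using hm) with h | h
      · exact h1 (by simpa using A.inv_mem h)
      · exact h2 (by simpa [mul_inv_rev] using A.inv_mem h)
  have hcount : (Finset.univ.filter fun x : G => x ∈ A).card = Nat.card A := by
    rw [Nat.card_eq_fintype_card, Fintype.card_subtype]
  have hcount2 : (Finset.univ.filter fun x : G => w⁻¹ * x ∈ A).card = Nat.card A := by
    rw [← hcount]
    exact Finset.card_equiv (Equiv.mulLeft w⁻¹) fun x => by simp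
  rw [indFun_def, Finset.sum_congr rfl fun x _ => key x, Finset.sum_add_distrib, ← Finset.sum_filter,
    ← Finset.sum_filter, Finset.sum_const, Finset.sum_const, hcount, hcount2, nsmul_eq_mul,
    nsmul_eq_mul, ← mul_add, ← mul_assoc,
    inv_mul_cancel₀ (by exact_mod_cast (Nat.card_pos (α := A)).ne'), one_mul]

theorem indFun_not_inConj (u : A → ℂ) {g : G} (hg : ¬ InConj A g) : Cfsg.indFun A u g = 0 :=
  indFun_eq_zero u fun x hx => hg ⟨x⁻¹, by simpa using hx⟩

variable [Fintype A]

theorem inner_indFun (u : A → ℂ) {h : G → ℂ} (hh : Cfsg.IsClassFunction G h) :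
    Cfsg.classInner (Cfsg.indFun A u) h = (Nat.card A : ℂ)⁻¹ * ∑ a : A, u a * conj (h a) := by
  rw [classInner_indFun u hh, classInner_def]

/-- The function induced from `1 - λ`. -/
noncomputable def fTI (A : Subgroup G) (lam : A →* ℂˣ) : G → ℂ :=
  Cfsg.indFun A fun a => 1 - (lam a : ℂ)

theorem fTI_isGeneralized (lam : A →* ℂˣ) : Cfsg.IsGeneralizedCharacter G (fTI A lam) :=
  IsGeneralized.indFun
    (IsGeneralized.sub isGeneralized_one (IsIrrCharacter.isGeneralized (isIrrCharacter_ofHom lam)))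

theorem fTI_class (lam : A →* ℂˣ) : Cfsg.IsClassFunction G (fTI A lam) := isClassFunction_indFun _ _

theorem fTI_one (lam : A →* ℂˣ) : fTI A lam 1 = 0 := by simp [fTI, indFun_one]

theorem fTI_apply_mem (E : Dih A w) (lam : A →* ℂˣ) (a : A) (ha : a ≠ 1) :
    fTI A lam a = 2 - lam a - lam a⁻¹ := by
  rw [fTI, indFun_apply_mem E _ a ha]; ring

theorem fTI_not_inConj (lam : A →* ℂˣ) {g : G} (hg : ¬ InConj A g) : fTI A lam g = 0 :=
  indFun_not_inConj _ hg

theorem fTI_trivial : fTI A 1 = 0 := by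
  simp only [fTI, MonoidHom.one_apply, Units.val_one, sub_self]
  exact indFun_zero

theorem fTI_inv (E : Dih A w) (lam : A →* ℂˣ) : fTI A lam⁻¹ = fTI A lam := by
  classical
  funext g
  by_cases hg : InConj A g
  · obtain ⟨x, hx⟩ := hg
    rw [← fTI_class lam⁻¹ g x, ← fTI_class lam g x]
    rcases eq_or_ne (⟨_, hx⟩ : A) 1 with e | e
    · have e' : x * g * x⁻¹ = 1 := congrArg Subtype.val e
      rw [e', fTI_one, fTI_one]
    · have e1 := fTI_apply_mem E lam⁻¹ ⟨_, hx⟩ e
      have e2 := fTI_apply_mem E lam ⟨_, hx⟩ e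
      simp only [MonoidHom.inv_apply, map_inv, inv_inv] at e1 e2 ⊢
      rw [e1, e2]; ring
  · rw [fTI_not_inConj _ hg, fTI_not_inConj _ hg]

theorem inner_fTI_one (lam : A →* ℂˣ) (hl : lam ≠ 1) :
    Cfsg.classInner (fTI A lam) (fun _ => (1 : ℂ)) = 1 := by
  classical
  rw [fTI, inner_indFun _ (fun _ _ => rfl)]
  simp only [map_one, mul_one, Finset.sum_sub_distrib, sum_hom, hl, if_false, Finset.sum_const,
    Finset.card_univ, nsmul_eq_mul, sub_zero, ← Nat.card_eq_fintype_card]
  exact inv_mul_cancel₀ (by exact_mod_cast (Nat.card_pos (α := A)).ne')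

theorem inner_fTI_fTI (E : Dih A w) (a b : A →* ℂˣ) [Decidable (a = b)] [Decidable (a * b = 1)]
    (ha : a ≠ 1) (hb : b ≠ 1) :
    Cfsg.classInner (fTI A a) (fTI A b) = 2 + (if a = b then 1 else 0) + (if a * b = 1 then 1 else 0) := by
  classical
  rw [fTI, inner_indFun _ (fTI_class b)]
  have h1 : ∀ x : A, (1 - (a x : ℂ)) * conj (fTI A b x) =
      2 - (b x⁻¹ : ℂ) - b x - 2 * a x + ((a * b⁻¹) x : ℂ) + ((a * b) x : ℂ) := by
    intro x
    have hbinv : ((b⁻¹) x : ℂ) = (b x⁻¹ : ℂ) := by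
      rw [MonoidHom.inv_apply, map_inv]
    by_cases hx : x = 1
    · subst hx
      simp [fTI_one]
      norm_num
    · rw [fTI_apply_mem E b x hx]
      simp only [map_sub, map_ofNat, conj_hom_apply, inv_inv, MonoidHom.mul_apply, Units.val_mul, hbinv]
      ring
  rw [Finset.sum_congr rfl fun x _ => h1 x]
  have hsinv : ∑ x : A, (b x⁻¹ : ℂ) = ∑ x : A, (b x : ℂ) :=
    Fintype.sum_equiv (Equiv.inv A) _ _ fun x => rfl
  have hab : a * b⁻¹ = 1 ↔ a = b :=
    ⟨fun h => MonoidHom.ext fun x => by simpa [mul_inv_eq_one] using DFunLike.congr_fun h x,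
      fun h => MonoidHom.ext fun x => by simp [h]⟩
  simp only [Finset.sum_add_distrib, Finset.sum_sub_distrib, ← Finset.mul_sum, hsinv, sum_hom,
    ha, hb, if_false, Finset.sum_const, Finset.card_univ, nsmul_eq_mul, ← Nat.card_eq_fintype_card,
    hab]
  have hk : (Nat.card A : ℂ) ≠ 0 := by exact_mod_cast (Nat.card_pos (α := A)).ne'
  split_ifs <;> field_simp <;> ring

variable [Fintype (A →* ℂˣ)]

theorem sum_inner_fTI (E : Dih A w) {h : G → ℂ} (hh : Cfsg.IsClassFunction G h) (c : A)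
    [Decidable (c = 1)] :
    ∑ lam : A →* ℂˣ, (lam c : ℂ) * Cfsg.classInner (fTI A lam) h =
      (if c = 1 then ∑ a : A, conj (h a) else 0) - conj (h (c⁻¹ : A)) := by
  classical
  have hk : (Nat.card A : ℂ) ≠ 0 := by exact_mod_cast (Nat.card_pos (α := A)).ne'
  simp only [fTI, inner_indFun _ hh, Finset.mul_sum]
  rw [Finset.sum_comm]
  have h1 : ∀ a : A, ∑ lam : A →* ℂˣ,
      (lam c : ℂ) * ((Nat.card A : ℂ)⁻¹ * ((1 - (lam a : ℂ)) * conj (h a))) =
      (if c = 1 then conj (h a) else 0) - (if a = c⁻¹ then conj (h a) else 0) := by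
    intro a
    have h2 : ∀ lam : A →* ℂˣ, (lam c : ℂ) * ((Nat.card A : ℂ)⁻¹ * ((1 - (lam a : ℂ)) * conj (h a))) =
        (Nat.card A : ℂ)⁻¹ * conj (h a) * ((lam c : ℂ) - (lam (c * a) : ℂ)) := fun lam => by
      rw [map_mul, Units.val_mul]; ring
    rw [Finset.sum_congr rfl fun lam _ => h2 lam, ← Finset.mul_sum, Finset.sum_sub_distrib,
      sum_dual E, sum_dual E]
    have h3 : c * a = 1 ↔ a = c⁻¹ := by rw [mul_eq_one_iff_inv_eq]; exact eq_comm
    rw [if_congr h3 rfl rfl]
    split_ifs <;> field_simp <;> ring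
  rw [Finset.sum_congr rfl fun a _ => h1 a, Finset.sum_sub_distrib, Finset.sum_ite_eq',
    if_pos (Finset.mem_univ _)]
  split_ifs <;> simp

/-- The values on `A` of a class function from its inner products with the `fTI`. -/
theorem apply_of_int (E : Dih A w) {h : G → ℂ} (hh : Cfsg.IsClassFunction G h) {c : (A →* ℂˣ) → ℤ}
    (hc : ∀ lam, Cfsg.classInner (fTI A lam) h = c lam) (a : A) (ha : a ≠ 1) :
    h a = -∑ lam : A →* ℂˣ, (lam a : ℂ) * c lam := by
  classical
  have h1 := sum_inner_fTI E hh a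
  rw [if_neg ha, zero_sub, Subgroup.coe_inv, apply_inv_eq E hh a.2] at h1
  simp only [hc] at h1
  have h2 := congrArg conj h1
  simp only [map_sum, map_mul, map_neg, Complex.conj_conj, conj_hom_apply, map_intCast] at h2
  have h3 : ∑ lam : A →* ℂˣ, (lam a⁻¹ : ℂ) * c lam = -h a := h2
  have hh' : ∀ lam : A →* ℂˣ, c lam⁻¹ = c lam := by
    intro lam
    have h4 : fTI A lam⁻¹ = fTI A lam := fTI_inv E lam
    have h5 := hc lam⁻¹
    rw [h4, hc lam] at h5
    exact_mod_cast h5.symm
  rw [← neg_eq_iff_eq_neg, ← h3]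
  refine Fintype.sum_equiv (Equiv.inv _) _ _ fun lam => ?_
  simp [hh']

/-- The sum of a class function over `A \ {1}`. -/
theorem sum_of_int (E : Dih A w) {h : G → ℂ} (hh : Cfsg.IsClassFunction G h) {c : (A →* ℂˣ) → ℤ}
    (hc : ∀ lam, Cfsg.classInner (fTI A lam) h = c lam) :
    ∑ a : A, h a = h 1 + ∑ lam : A →* ℂˣ, (c lam : ℂ) := by
  classical
  have h1 := sum_inner_fTI E hh 1
  simp only [map_one, Units.val_one, one_mul, if_pos, hc, inv_one, Subgroup.coe_one] at h1
  have h2 := congrArg conj h1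
  simp only [map_sum, map_sub, Complex.conj_conj, map_intCast] at h2
  linear_combination -h2

end Induced

end CfsgLib.Wall
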