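import Cfsg.Agent.Char.Signed

/-!
Generalized characters of small norm as sums of signed irreducible characters.
-/

set_option autoImplicit false
set_option linter.unusedSectionVars false

namespace CfsgLib.Wall

open CfsgLib.Char
open scoped ComplexConjugate

universe u

variable {G : Type u} [Group G] [Fintype G]

theorem signed_isGeneralized {A : G → ℂ} (h : IsSignedIrr A) : Cfsg.IsGeneralizedCharacter G A := by
  rcases h with h | h
  · exact IsIrrCharacter.isGeneralized h
  · simpa using IsGeneralized.neg (IsIrrCharacter.isGeneralized h)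

theorem signed_neg {A : G → ℂ} (h : IsSignedIrr A) : IsSignedIrr (-A) := by
  rcases h with h | h
  · exact Or.inr (by simpa using h)
  · exact Or.inl h

theorem signed_inner_cases {A B : G → ℂ} (hA : IsSignedIrr A) (hB : IsSignedIrr B) :
    Cfsg.classInner A B = 0 ∨ (Cfsg.classInner A B = 1 ∧ B = A) ∨
      (Cfsg.classInner A B = -1 ∧ B = -A) := by
  rcases eq_or_ne (Cfsg.classInner A B) 0 with h | h
  · exact Or.inl h
  · obtain ⟨s, hs, hBs, hv⟩ := IsSignedIrr.eq_smul_of_classInner_ne hA hB h
    rcases hs with rfl | rfl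
    · exact Or.inr (Or.inl ⟨hv, by rw [hBs, one_smul]⟩)
    · exact Or.inr (Or.inr ⟨hv, by rw [hBs, neg_one_smul]⟩)

theorem classInner_symm {A B : G → ℂ} (hA : Cfsg.IsGeneralizedCharacter G A)
    (hB : Cfsg.IsGeneralizedCharacter G B) : Cfsg.classInner A B = Cfsg.classInner B A := by
  obtain ⟨n, hn⟩ := IsGeneralized.exists_classInner_eq_int hA hB
  rw [← classInner_conj A B, hn, map_intCast]

theorem peel {τ : G → ℂ} (hτ : Cfsg.IsGeneralizedCharacter G τ) {n : ℕ} (hn : n ≤ 3) (hn0 : n ≠ 0)
    (h : Cfsg.classInner τ τ = n) :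
    ∃ A : G → ℂ, IsSignedIrr A ∧ Cfsg.IsGeneralizedCharacter G (τ - A) ∧
      Cfsg.classInner (τ - A) A = 0 ∧ Cfsg.classInner (τ - A) (τ - A) = (n : ℂ) - 1 := by
  classical
  have hτcl := IsGeneralized.isClassFunction hτ
  have hm : ∀ μ ∈ irrFinset G, ∃ m : ℤ, Cfsg.classInner τ μ = m := fun μ hμ =>
    IsGeneralized.exists_classInner_eq_int hτ (IsIrrCharacter.isGeneralized (mem_irrFinset.1 hμ))
  choose! m hmval using hm
  have hsum : ∑ μ ∈ irrFinset G, m μ * m μ = n := by
    have h3 := classInner_eq_sum_irr hτcl τ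
    rw [h] at h3
    have h4 : ((n : ℤ) : ℂ) = ((∑ μ ∈ irrFinset G, m μ * m μ : ℤ) : ℂ) := by
      push_cast
      rw [h3]
      exact Finset.sum_congr rfl fun μ hμ => by rw [hmval μ hμ]; simp
    exact_mod_cast h4.symm
  obtain ⟨μ, hμ, hμ0⟩ : ∃ μ ∈ irrFinset G, m μ ≠ 0 := by
    by_contra hall
    push Not at hall
    rw [Finset.sum_eq_zero fun μ hμ => by rw [hall μ hμ, zero_mul]] at hsum
    exact hn0 (by exact_mod_cast hsum.symm)
  have hle : m μ * m μ ≤ n := by
    rw [← hsum]; exact Finset.single_le_sum (fun ν _ => mul_self_nonneg (m ν)) hμ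
  have hle3 : (n : ℤ) ≤ 3 := by exact_mod_cast hn
  have hm1 : m μ = 1 ∨ m μ = -1 := by
    have : m μ ≤ 1 ∧ -1 ≤ m μ := by constructor <;> nlinarith
    omega
  have hμi := mem_irrFinset.1 hμ
  refine ⟨(m μ : ℂ) • μ, ?_, IsGeneralized.sub hτ
    (IsGeneralized.intCast_smul (IsIrrCharacter.isGeneralized hμi) _), ?_, ?_⟩
  · rcases hm1 with e | e <;> rw [e]
    · left; simpa using hμi
    · right; simpa using hμi
  all_goals
    have e1 := hmval μ hμ
    have e2 : Cfsg.classInner μ τ = m μ := by rw [← classInner_conj τ μ, e1, map_intCast]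
    simp only [classInner_sub_left, classInner_sub_right, classInner_smul_left, classInner_smul_right,
      map_intCast, e1, e2, h, IsIrrCharacter.classInner_self hμi]
    rcases hm1 with e | e <;> rw [e] <;> norm_num

theorem exists_single {τ : G → ℂ} (hτ : Cfsg.IsGeneralizedCharacter G τ)
    (h : Cfsg.classInner τ τ = 1) : IsSignedIrr τ := IsGeneralized.isIrr_or_neg hτ h

theorem exists_pair {τ : G → ℂ} (hτ : Cfsg.IsGeneralizedCharacter G τ)
    (h : Cfsg.classInner τ τ = 2) :
    ∃ A B, IsSignedIrr A ∧ IsSignedIrr B ∧ Cfsg.classInner A B = 0 ∧ τ = A + B := by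
  obtain ⟨A, hA, hg, h0, h1⟩ := peel hτ (n := 2) (by norm_num) (by norm_num) (by simpa using h)
  refine ⟨A, τ - A, hA, exists_single hg (by rw [h1]; norm_num), ?_, by abel⟩
  rw [classInner_symm (signed_isGeneralized hA) hg, h0]

theorem exists_triple {τ : G → ℂ} (hτ : Cfsg.IsGeneralizedCharacter G τ)
    (h : Cfsg.classInner τ τ = 3) :
    ∃ A B C, IsSignedIrr A ∧ IsSignedIrr B ∧ IsSignedIrr C ∧ Cfsg.classInner A B = 0 ∧
      Cfsg.classInner A C = 0 ∧ Cfsg.classInner B C = 0 ∧ τ = A + B + C := by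
  obtain ⟨A, hA, hg, h0, h1⟩ := peel hτ (n := 3) (by norm_num) (by norm_num) (by simpa using h)
  obtain ⟨B, C, hB, hC, hBC, hτBC⟩ := exists_pair hg (by rw [h1]; norm_num)
  rw [hτBC, classInner_add_left] at h0
  have hBA := classInner_symm (signed_isGeneralized hB) (signed_isGeneralized hA)
  have hCA := classInner_symm (signed_isGeneralized hC) (signed_isGeneralized hA)
  have hz : Cfsg.classInner A B = 0 := by
    rcases signed_inner_cases hA hB with e | ⟨e, eB⟩ | ⟨e, eB⟩
    · exact e
    all_goals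
      exfalso
      rcases signed_inner_cases hA hC with e' | ⟨e', eC⟩ | ⟨e', eC⟩
      · rw [hBA, hCA, e, e'] at h0; norm_num at h0
      all_goals
        rw [eB, eC] at hBC
        simp [classInner_neg_left, classInner_neg_right, IsSignedIrr.classInner_self hA] at hBC
  refine ⟨A, B, C, hA, hB, hC, hz, ?_, hBC, ?_⟩
  · rw [hBA, hz, zero_add, hCA] at h0; exact h0
  · rw [add_assoc, ← hτBC]; abel

/-- Evaluating an even function against a signed irreducible character. -/
theorem sum_signed {A : G → ℂ} (hA : IsSignedIrr A) (q : (G → ℂ) → ℂ) (hq : ∀ χ, q (-χ) = q χ) :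
    ∑ χ ∈ irrFinset G, Cfsg.classInner A χ * q χ / χ 1 = q A / A 1 := by
  classical
  rcases hA with h | h
  · rw [Finset.sum_eq_single A]
    · rw [IsIrrCharacter.classInner_self h, one_mul]
    · intro χ hχ hne
      rw [IsIrrCharacter.classInner_of_ne h (mem_irrFinset.1 hχ) hne.symm, zero_mul, zero_div]
    · intro hn; exact absurd (mem_irrFinset.2 h) hn
  · rw [Finset.sum_eq_single (-A)]
    · have := IsIrrCharacter.classInner_self h
      rw [classInner_neg_left, classInner_neg_right, neg_neg] at this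
      rw [classInner_neg_right, this, hq, Pi.neg_apply, neg_mul, one_mul, neg_div_neg_eq]
    · intro χ hχ hne
      have := IsIrrCharacter.classInner_of_ne h (mem_irrFinset.1 hχ) hne.symm
      rw [classInner_neg_left, neg_eq_zero] at this
      rw [this, zero_mul, zero_div]
    · intro hn; exact absurd (mem_irrFinset.2 h) hn

theorem signed_sum_sq {A : G → ℂ} (hA : IsSignedIrr A) :
    ∑ g : G, A g * conj (A g) = (Nat.card G : ℂ) := by
  rw [sum_eq_card_mul_classInner, IsSignedIrr.classInner_self hA, mul_one]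

end CfsgLib.Wall
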