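import Cfsg.Agent.Wall.Dihedral

/-!
The hypotheses of the Brauer-Suzuki-Wall theorem and their elementary consequences.
-/

set_option autoImplicit false
set_option linter.unusedSectionVars false
set_option linter.style.haveILetI false
set_option linter.deprecated false

namespace CfsgLib.Wall

open Subgroup

universe u

/-- The hypotheses. -/
structure Data (G : Type u) [Group G] where
  /-- The involution. -/
  t : G
  /-- An inverting involution. -/
  s : G
  /-- The abelian subgroup. -/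
  K : Subgroup G
  ht : orderOf t = 2
  hs : orderOf s = 2
  hKab : IsMulCommutative ↥K
  hKH : K ≤ centralizer ({t} : Set G)
  htK : t ∈ K
  hsH : s ∈ centralizer ({t} : Set G)
  hsK : s ∉ K
  hH : K ⊔ zpowers s = centralizer ({t} : Set G)
  hCK : K ⊓ centralizer ({s} : Set G) = zpowers t
  hinv : ∀ x ∈ K, s * x * s⁻¹ = x⁻¹
  hTI : ∀ g : G, g ∉ centralizer ({t} : Set G) → K ⊓ K.map (MulAut.conj g).toMonoidHom = ⊥
  hconj : ∀ x y : G, orderOf x = 2 → orderOf y = 2 → IsConj x y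

theorem orderOf_two {G : Type u} [Group G] {x : G} (h : x * x = 1) (h1 : x ≠ 1) : orderOf x = 2 :=
  orderOf_eq_prime (by rw [sq, h]) h1

theorem conj_commute {G : Type u} [Group G] {a b : G} (h : a * b = b * a) (x : G) :
    x * a * x⁻¹ * (x * b * x⁻¹) = x * b * x⁻¹ * (x * a * x⁻¹) := by rw [conj_mul, conj_mul, h]

namespace Data

variable {G : Type u} [Group G] (D : Data G)

theorem t_sq : D.t * D.t = 1 := by rw [← sq, ← D.ht, pow_orderOf_eq_one]

theorem t_ne_one : D.t ≠ 1 := fun h => by have := D.ht; rw [h, orderOf_one] at this; omega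

theorem s_sq : D.s * D.s = 1 := by rw [← sq, ← D.hs, pow_orderOf_eq_one]

theorem mem_H {x : G} : x ∈ centralizer ({D.t} : Set G) ↔ x * D.t = D.t * x :=
  mem_centralizer_singleton_iff

theorem comm_K {a b : G} (ha : a ∈ D.K) (hb : b ∈ D.K) : a * b = b * a :=
  congrArg Subtype.val (D.hKab.is_comm.comm ⟨a, ha⟩ ⟨b, hb⟩)

theorem s_normalizes : D.s ∈ normalizer (D.K : Set G) := by
  refine mem_normalizer_iff.2 fun y => ⟨fun hy => by rw [D.hinv y hy]; exact inv_mem hy, fun hy => ?_⟩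
  have hs : D.s⁻¹ = D.s := inv_eq_of_mul_eq_one_right D.s_sq
  have h1 : D.s * (D.s * y * D.s⁻¹) * D.s⁻¹ = (D.s * y * D.s⁻¹)⁻¹ := D.hinv _ hy
  have h2 : D.s * (D.s * y * D.s⁻¹) * D.s⁻¹ = y := by
    calc D.s * (D.s * y * D.s⁻¹) * D.s⁻¹ = D.s * D.s * y * (D.s * D.s)⁻¹ := by group
      _ = y := by rw [D.s_sq]; group
  rw [h2] at h1
  rw [h1]; exact inv_mem hy

theorem H_le_normalizer : centralizer ({D.t} : Set G) ≤ normalizer (D.K : Set G) := by
  rw [← D.hH]; exact sup_le le_normalizer (zpowers_le.2 D.s_normalizes)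

theorem H_cases {x : G} (hx : x ∈ centralizer ({D.t} : Set G)) : x ∈ D.K ∨ x * D.s ∈ D.K := by
  have hx' : x ∈ (↑(D.K ⊔ zpowers D.s) : Set G) := by rw [D.hH]; exact hx
  rw [coe_mul_of_right_le_normalizer_left D.K (zpowers D.s) (zpowers_le.2 D.s_normalizes)] at hx'
  obtain ⟨y, hy, z, hz, rfl⟩ := hx'
  obtain ⟨i, rfl⟩ := mem_zpowers_iff.1 hz
  rcases Int.even_or_odd i with ⟨j, rfl⟩ | ⟨j, rfl⟩
  · left
    rw [← two_mul, zpow_mul, zpow_two, D.s_sq, one_zpow]
    simpa using hy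
  · right
    rw [zpow_add_one, zpow_mul, zpow_two, D.s_sq, one_zpow, one_mul]
    show y * D.s * D.s ∈ D.K
    rw [mul_assoc, D.s_sq, mul_one]; exact hy

theorem outside {x : G} (hx : x ∈ centralizer ({D.t} : Set G)) (h : x ∉ D.K) :
    x * x = 1 ∧ ∀ y ∈ D.K, x * y * x⁻¹ = y⁻¹ := by
  have h1 := (D.H_cases hx).resolve_left h
  set y₀ := x * D.s with hy₀
  have hxe : x = y₀ * D.s := by rw [hy₀, mul_assoc, D.s_sq, mul_one]
  have hsi : D.s⁻¹ = D.s := inv_eq_of_mul_eq_one_right D.s_sq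
  refine ⟨?_, fun y hy => ?_⟩
  · rw [hxe]
    have h2 := D.hinv y₀ h1
    rw [hsi] at h2
    calc y₀ * D.s * (y₀ * D.s) = y₀ * (D.s * y₀ * D.s) := by group
      _ = 1 := by rw [h2, mul_inv_cancel]
  · rw [hxe, mul_inv_rev]
    calc y₀ * D.s * y * (D.s⁻¹ * y₀⁻¹) = y₀ * (D.s * y * D.s⁻¹) * y₀⁻¹ := by group
      _ = _ := by rw [D.hinv y hy, D.comm_K h1 (inv_mem hy)]; group

theorem invol_K {x : G} (hx : x ∈ D.K) (h : x * x = 1) : x = 1 ∨ x = D.t := by
  have hxs : x ∈ D.K ⊓ centralizer ({D.s} : Set G) := by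
    refine ⟨hx, mem_centralizer_singleton_iff.2 ?_⟩
    have h2 := D.hinv x hx
    rw [inv_eq_of_mul_eq_one_right h, mul_inv_eq_iff_eq_mul] at h2
    exact h2.symm
  rw [D.hCK] at hxs
  obtain ⟨i, rfl⟩ := mem_zpowers_iff.1 hxs
  rcases Int.even_or_odd i with ⟨j, rfl⟩ | ⟨j, rfl⟩
  · left; rw [← two_mul, zpow_mul, zpow_two, D.t_sq, one_zpow]
  · right; rw [zpow_add_one, zpow_mul, zpow_two, D.t_sq, one_zpow, one_mul]

theorem ti {g x : G} (hx : x ∈ D.K) (hx1 : x ≠ 1) (hg : g * x * g⁻¹ ∈ D.K) :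
    g ∈ centralizer ({D.t} : Set G) := by
  by_contra h
  have hm : g * x * g⁻¹ ∈ D.K ⊓ D.K.map (MulAut.conj g).toMonoidHom := ⟨hg, x, hx, rfl⟩
  rw [D.hTI g h, mem_bot, conj_eq_one_iff] at hm
  exact hx1 hm

theorem dih : Dih D.K D.s where
  comm _ ha _ hb := D.comm_K ha hb
  inverts := D.hinv
  not_mem := D.hsK
  ti a ha ha1 _ hg := D.H_cases (D.ti ha ha1 hg)

theorem centralizer_K {x : G} (hx : x ∈ D.K) (hx1 : x ≠ 1) (hxt : x ≠ D.t) :
    centralizer ({x} : Set G) = D.K := by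
  refine le_antisymm (fun g hg => ?_) fun g hg => mem_centralizer_singleton_iff.2 (D.comm_K hg hx)
  have hgx := mem_centralizer_singleton_iff.1 hg
  have hgc : g * x * g⁻¹ = x := by rw [mul_inv_eq_iff_eq_mul]; exact hgx
  have hgH : g ∈ centralizer ({D.t} : Set G) := D.ti hx hx1 (by rw [hgc]; exact hx)
  by_contra hgK
  have h2 := (D.outside hgH hgK).2 x hx
  rw [hgc] at h2
  rcases D.invol_K hx (mul_eq_one_iff_eq_inv.2 h2) with e | e
  · exact hx1 e
  · exact hxt e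

theorem isConj_t {u : G} (h : u * u = 1) (h1 : u ≠ 1) : IsConj u D.t :=
  D.hconj u D.t (orderOf_two h h1) D.ht

theorem invol_inConj {u : G} (h : u * u = 1) (h1 : u ≠ 1) : InConj D.K u := by
  obtain ⟨x, hx⟩ := isConj_iff.1 (D.isConj_t h h1)
  exact ⟨x, hx ▸ D.htK⟩

/-- An element commuting with an involution has a conjugate in `K`. -/
theorem inConj_of_commute {g v : G} (hv : v * v = 1) (hv1 : v ≠ 1) (hgv : g * v = v * g) :
    InConj D.K g := by
  obtain ⟨x, hx⟩ := isConj_iff.1 (D.isConj_t hv hv1)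
  have hg' : x * g * x⁻¹ ∈ centralizer ({D.t} : Set G) :=
    D.mem_H.2 (by rw [← hx]; exact conj_commute hgv x)
  by_cases h : x * g * x⁻¹ ∈ D.K
  · exact ⟨x, h⟩
  · have h1 : x * g * x⁻¹ ≠ 1 := fun e => h (e ▸ one_mem _)
    obtain ⟨y, hy⟩ := D.invol_inConj (D.outside hg' h).1 h1
    exact ⟨y * x, by simpa [mul_assoc] using hy⟩

/-- An element of `K` is centralized only by elements with conjugates in `K`. -/
theorem inConj_of_centralizes {g c : G} (hc : InConj D.K c) (hc1 : c ≠ 1) (hgc : g * c = c * g) :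
    InConj D.K g := by
  obtain ⟨x, hx⟩ := hc
  have hx1 : x * c * x⁻¹ ≠ 1 := fun e => hc1 (conj_eq_one_iff.1 e)
  by_cases ht : x * c * x⁻¹ = D.t
  · refine D.inConj_of_commute ?_ hc1 hgc
    have h2 : x * (c * c) * x⁻¹ = 1 := by rw [← conj_mul, ht, D.t_sq]
    exact conj_eq_one_iff.1 h2
  · refine ⟨x, ?_⟩
    rw [← D.centralizer_K hx hx1 ht, mem_centralizer_singleton_iff]
    exact conj_commute hgc x

theorem inConj_conj {A : Subgroup G} {g : G} (x : G) : InConj A (x * g * x⁻¹) ↔ InConj A g := by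
  constructor
  · rintro ⟨y, hy⟩; exact ⟨y * x, by simpa [mul_assoc] using hy⟩
  · rintro ⟨y, hy⟩; exact ⟨y * x⁻¹, by simpa [mul_assoc] using hy⟩

variable [Finite G]

theorem card_H : Nat.card (centralizer ({D.t} : Set G)) = 2 * Nat.card D.K := by
  set H := centralizer ({D.t} : Set G)
  have hidx : (D.K.subgroupOf H).index = 2 := by
    refine index_eq_two_iff.2 ⟨⟨D.s, D.hsH⟩, fun b => ?_⟩
    rw [mem_subgroupOf, mem_subgroupOf]
    rcases D.H_cases b.2 with h | h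
    · refine Or.inr ⟨h, fun h2 => D.hsK ?_⟩
      exact (D.K.mul_mem_cancel_left h).1 h2
    · exact Or.inl ⟨h, fun h2 => D.hsK ((D.K.mul_mem_cancel_left h2).1 h)⟩
  have h := card_mul_index (D.K.subgroupOf H)
  rw [hidx, Nat.card_congr (subgroupOfEquivOfLe D.hKH).toEquiv] at h
  omega

theorem even_card_K : Even (Nat.card D.K) := by
  rw [even_iff_two_dvd, ← D.ht, ← Subgroup.orderOf_mk D.t D.htK]
  exact orderOf_dvd_natCard _

theorem two_le_card_K : 2 ≤ Nat.card D.K := by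
  obtain ⟨r, hr⟩ := D.even_card_K
  have : 0 < Nat.card D.K := Nat.card_pos
  omega

/-- `k` ordered pairs of involutions multiply to a given element of `K \ {1}`. -/
theorem card_pairs {y : G} (hy : y ∈ D.K) (hy1 : y ≠ 1) :
    Nat.card {p : G × G // IsConj D.t p.1 ∧ IsConj D.t p.2 ∧ p.1 * p.2 = y} = Nat.card D.K := by
  have hsq : ∀ {x : G}, IsConj D.t x → x * x = 1 ∧ x ≠ 1 := by
    intro x hx
    obtain ⟨g, rfl⟩ := isConj_iff.1 hx
    refine ⟨?_, fun h => D.t_ne_one (conj_eq_one_iff.1 h)⟩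
    rw [conj_mul, D.t_sq, mul_one, mul_inv_cancel]
  have hto : ∀ p : {p : G × G // IsConj D.t p.1 ∧ IsConj D.t p.2 ∧ p.1 * p.2 = y},
      p.1.1 * D.s ∈ D.K := by
    rintro ⟨⟨p, q⟩, hp, hq, hpq⟩
    obtain ⟨hp2, hp1⟩ := hsq hp
    obtain ⟨hq2, hq1⟩ := hsq hq
    simp only at hpq ⊢
    have hinv : p * y * p⁻¹ = y⁻¹ := by
      rw [← hpq, mul_inv_rev, ← mul_assoc, hp2, one_mul, inv_eq_of_mul_eq_one_right hq2]
    have hpH : p ∈ centralizer ({D.t} : Set G) := D.ti hy hy1 (by rw [hinv]; exact inv_mem hy)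
    refine (D.H_cases hpH).resolve_left fun hpK => ?_
    rcases D.invol_K hpK hp2 with e | e
    · exact hp1 e
    have hqK : q ∈ D.K := by
      have h := mul_mem hpK hy
      rwa [← hpq, ← mul_assoc, hp2, one_mul] at h
    rcases D.invol_K hqK hq2 with e' | e'
    · exact hq1 e'
    rw [e, e', D.t_sq] at hpq
    exact hy1 hpq.symm
  refine Nat.card_eq_of_bijective (fun p => (⟨p.1.1 * D.s, hto p⟩ : D.K)) ⟨?_, ?_⟩
  · rintro ⟨⟨p, q⟩, hp, hq, hpq⟩ ⟨⟨p', q'⟩, hp', hq', hpq'⟩ h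
    obtain rfl : p = p' := mul_right_cancel (congrArg Subtype.val h)
    obtain rfl : q = q' := mul_left_cancel (hpq.trans hpq'.symm)
    rfl
  · rintro ⟨c, hc⟩
    have hw : ∀ d ∈ D.K, IsConj D.t (d * D.s) := by
      intro d hd
      have hnot : d * D.s ∉ D.K := fun h => D.hsK ((D.K.mul_mem_cancel_left hd).1 h)
      exact (D.isConj_t (D.outside (mul_mem (D.hKH hd) D.hsH) hnot).1
        fun h => hnot (h ▸ one_mem _)).symm
    have he : c * D.s * y = c * y⁻¹ * D.s := by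
      rw [← D.hinv y hy]; group
    refine ⟨⟨(c * D.s, c * D.s * y), hw c hc, ?_, ?_⟩, Subtype.ext ?_⟩
    · show IsConj D.t (c * D.s * y)
      rw [he]; exact hw _ (mul_mem hc (inv_mem hy))
    · have hnot : c * D.s ∉ D.K := fun h => D.hsK ((D.K.mul_mem_cancel_left hc).1 h)
      show c * D.s * (c * D.s * y) = y
      rw [← mul_assoc, (D.outside (mul_mem (D.hKH hc) D.hsH) hnot).1, one_mul]
    · show c * D.s * D.s = c
      rw [mul_assoc, D.s_sq, mul_one]

end Data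

end CfsgLib.Wall
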