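import Cfsg.Agent.Wall.Base
import Cfsg.Agent.Wall.Signed
import Cfsg.Agent.Char.ClassProducts

/-!
The exceptional characters and the constant of the order formula.
-/

set_option autoImplicit false
set_option linter.unusedSectionVars false
set_option linter.style.haveILetI false
set_option linter.deprecated false

namespace CfsgLib.Wall

open CfsgLib.Char
open scoped ComplexConjugate

universe u

/-- The constant function one. -/
abbrev oneFun (G : Type u) : G → ℂ := fun _ => 1

section Dual

variable {X : Type u} [Group X] {a b c : X →* ℂˣ}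

theorem dual_sq_ne {a : X →* ℂˣ} (h : a * a ≠ 1) : a ≠ 1 := fun e =>
  h (MonoidHom.ext fun x => by rw [e]; simp)

theorem dual_eq_inv (h : a * b = 1) : a = b⁻¹ := @eq_inv_of_mul_eq_one_left (X →* ℂˣ) _ a b h

theorem dual_inv_eq (h : a * a = 1) : a⁻¹ = a := (dual_eq_inv h).symm

theorem dual_eq_inv' (h : a * b = 1) : b = a⁻¹ := @eq_inv_of_mul_eq_one_right (X →* ℂˣ) _ a b h

theorem dual_mul_inv_eq_one : a * b⁻¹ = 1 ↔ a = b := @mul_inv_eq_one (X →* ℂˣ) _ a b

theorem dual_cancel (h : a * b = a * c) : b = c := mul_left_cancel h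

theorem dual_self_inv (h : a = a⁻¹) : a * a = 1 := (@mul_eq_one_iff_eq_inv (X →* ℂˣ) _ a a).2 h

theorem dual_mul_sq (h : b * b = 1) : a * b * (a * b) = a * a := by
  refine MonoidHom.ext fun x => ?_
  have hx : b x * b x = 1 := DFunLike.congr_fun h x
  simp only [MonoidHom.mul_apply]
  rw [mul_mul_mul_comm, hx, mul_one]

end Dual

section Parity

variable {A : Type u} [CommGroup A] [Finite A]

theorem exists_eps (h2 : Nat.card (powMonoidHom 2 : A →* A).ker = 2) :
    ∃ ε : A →* ℂˣ, ε ≠ 1 ∧ ε * ε = 1 ∧ ∀ lam : A →* ℂˣ, lam * lam = 1 → lam = 1 ∨ lam = ε := by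
  classical
  set S := (powMonoidHom 2 : A →* A).range with hS
  have hidx : S.index = 2 := by
    have e1 := Subgroup.card_mul_index S
    have e2 := Subgroup.card_mul_index (powMonoidHom 2 : A →* A).ker
    rw [Subgroup.index_ker, h2] at e2
    rw [hS] at e1 ⊢
    have : 0 < Nat.card (powMonoidHom 2 : A →* A).range := Nat.card_pos
    nlinarith
  have hne : S ≠ ⊤ := fun h => by rw [h, Subgroup.index_top] at hidx; omega
  obtain ⟨a, ha⟩ : ∃ a, a ∉ S := by
    by_contra hall
    push Not at hall
    exact hne (eq_top_iff.2 fun x _ => hall x)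
  let ε : A →* ℂˣ :=
    { toFun := fun x => if x ∈ S then 1 else -1
      map_one' := by simp [S.one_mem]
      map_mul' := fun x y => by
        have h := Subgroup.mul_mem_iff_of_index_two hidx (a := x) (b := y)
        by_cases hx : x ∈ S <;> by_cases hy : y ∈ S <;> simp [h, hx, hy] }
  have hεS : ∀ x, x ∈ S → ε x = 1 := fun x hx => if_pos hx
  have hεN : ∀ x, x ∉ S → ε x = -1 := fun x hx => if_neg hx
  refine ⟨ε, fun h => ?_, MonoidHom.ext fun x => ?_, fun lam hl => ?_⟩
  · have h1 : ε a = 1 := by rw [h]; rfl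
    rw [hεN a ha] at h1
    exact absurd (congrArg (fun u : ℂˣ => (u : ℂ)) h1) (by norm_num)
  · by_cases hx : x ∈ S
    · simp [hεS x hx]
    · simp [hεN x hx]
  have hsq : ∀ x, lam x * lam x = 1 := fun x => DFunLike.congr_fun hl x
  have hlS : ∀ x, x ∈ S → lam x = 1 := by
    rintro _ ⟨y, rfl⟩
    rw [powMonoidHom_apply, sq, map_mul, hsq]
  have hlN : ∀ x, x ∉ S → lam x = lam a := by
    intro x hx
    have hm : x * a ∈ S := (Subgroup.mul_mem_iff_of_index_two hidx).2 (iff_of_false hx ha)
    have h1 := hlS _ hm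
    rw [map_mul] at h1
    calc lam x = lam x * (lam a * lam a) := by rw [hsq, mul_one]
      _ = lam a := by rw [← mul_assoc, h1, one_mul]
  have ha2 : lam a = 1 ∨ lam a = -1 := by
    have h1 : (lam a : ℂ) * lam a = 1 := by rw [← Units.val_mul, hsq]; rfl
    rcases mul_self_eq_one_iff.1 h1 with e | e
    · exact Or.inl (Units.ext e)
    · exact Or.inr (Units.ext (by simpa using e))
  rcases ha2 with e | e
  · refine Or.inl (MonoidHom.ext fun x => ?_)
    by_cases hx : x ∈ S
    · rw [hlS x hx]; rfl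
    · rw [hlN x hx, e]; rfl
  · refine Or.inr (MonoidHom.ext fun x => ?_)
    by_cases hx : x ∈ S
    · rw [hlS x hx, hεS x hx]
    · rw [hlN x hx, e, hεN x hx]

end Parity

variable {G : Type u} [Group G] [Fintype G]

theorem classInner_oneFun_fTI {A : Subgroup G} [Fintype A] (lam : A →* ℂˣ) (hl : lam ≠ 1) :
    Cfsg.classInner (oneFun G) (fTI A lam) = 1 := by
  rw [← classInner_conj (fTI A lam) (oneFun G)]
  rw [inner_fTI_one lam hl, map_one]

theorem signed_one : IsSignedIrr (oneFun G) := by
  left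
  simpa [oneFun] using isIrrCharacter_ofHom (1 : G →* ℂˣ)

theorem inner_int {A B : G → ℂ} (hA : IsSignedIrr A) (hB : IsSignedIrr B) :
    ∃ n : ℤ, Cfsg.classInner A B = n ∧ (n = 0 ∨ n = 1 ∨ n = -1) := by
  rcases signed_inner_cases hA hB with e | ⟨e, -⟩ | ⟨e, -⟩
  · exact ⟨0, by rw [e]; norm_num, by norm_num⟩
  · exact ⟨1, by rw [e]; norm_num, by norm_num⟩
  · exact ⟨-1, by rw [e]; norm_num, by norm_num⟩

/-- At most one of two orthogonal signed irreducibles meets a given one. -/
theorem one_of_orth {A B S : G → ℂ} (hA : IsSignedIrr A) (hB : IsSignedIrr B) (hS : IsSignedIrr S)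
    (h : Cfsg.classInner A B = 0) : Cfsg.classInner A S = 0 ∨ Cfsg.classInner B S = 0 := by
  rcases signed_inner_cases hA hS with e | ⟨-, e⟩ | ⟨-, e⟩
  · exact Or.inl e
  all_goals
    refine Or.inr ?_
    have hBA : Cfsg.classInner B A = 0 := by rw [← classInner_conj A B, h, map_zero]
    rw [e]
    simp [classInner_neg_right, hBA]

theorem pair_orth {A B S : G → ℂ} (hA : IsSignedIrr A) (hB : IsSignedIrr B) (hS : IsSignedIrr S)
    (hAB : Cfsg.classInner A B = 0) (h : Cfsg.classInner (A + B) S = 0) :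
    Cfsg.classInner A S = 0 ∧ Cfsg.classInner B S = 0 := by
  rw [classInner_add_left] at h
  rcases one_of_orth hA hB hS hAB with e | e <;> rw [e] at h <;> simp_all

theorem pair_value {A B S : G → ℂ} (hA : IsSignedIrr A) (hB : IsSignedIrr B) (hS : IsSignedIrr S)
    (hAB : Cfsg.classInner A B = 0) :
    ∃ n : ℤ, Cfsg.classInner (A + B) S = n ∧ (n = 0 ∨ n = 1 ∨ n = -1) := by
  rw [classInner_add_left]
  rcases one_of_orth hA hB hS hAB with e | e
  · rw [e, zero_add]; exact inner_int hB hS
  · rw [e, add_zero]; exact inner_int hA hS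

namespace Data

variable (D : Data G)

/-- The class function of a linear character of `K`. -/
noncomputable abbrev f (lam : D.K →* ℂˣ) : G → ℂ := fTI D.K lam

/-- The involution in `K`. -/
def tK : D.K := ⟨D.t, D.htK⟩

theorem tK_ne_one : D.tK ≠ 1 := fun h => D.t_ne_one (congrArg Subtype.val h)

theorem tK_mul_tK : D.tK * D.tK = 1 := Subtype.ext D.t_sq

theorem tK_inv : D.tK⁻¹ = D.tK := inv_eq_of_mul_eq_one_right D.tK_mul_tK

theorem hom_t_cases (lam : D.K →* ℂˣ) : (lam D.tK : ℂ) = 1 ∨ (lam D.tK : ℂ) = -1 := by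
  have h : (lam D.tK : ℂ) * lam D.tK = 1 := by rw [← Units.val_mul, ← map_mul, D.tK_mul_tK]; simp
  exact mul_self_eq_one_iff.1 h

variable [Fintype D.K] [Fintype (D.K →* ℂˣ)]

theorem exists_real_hom : ∃ ε : D.K →* ℂˣ, ε ≠ 1 ∧ ε * ε = 1 ∧
    ∀ lam : D.K →* ℂˣ, lam * lam = 1 → lam = 1 ∨ lam = ε := by
  letI : CommGroup D.K :=
    { (inferInstance : Group D.K) with mul_comm := fun a b => Subtype.ext (D.comm_K a.2 b.2) }
  refine exists_eps (A := D.K) ?_
  rw [Nat.card_eq_two_iff]
  refine ⟨1, ⟨D.tK, ?_⟩, ?_, ?_⟩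
  · show D.tK ^ 2 = 1
    rw [sq, D.tK_mul_tK]
  · exact fun h => D.tK_ne_one (congrArg Subtype.val h).symm
  · refine Set.eq_univ_of_forall fun x => ?_
    have hx : ((x : D.K) : G) * (x : D.K) = 1 := by
      have h := x.2
      rw [MonoidHom.mem_ker, powMonoidHom_apply, sq] at h
      exact congrArg Subtype.val h
    rcases D.invol_K (x : D.K).2 hx with e | e
    · exact Or.inl (Subtype.ext (Subtype.ext e))
    · exact Or.inr (Subtype.ext (Subtype.ext e))

theorem exists_nonreal (hk : 3 ≤ Nat.card D.K) : ∃ lam : D.K →* ℂˣ, lam * lam ≠ 1 := by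
  classical
  obtain ⟨x, hx⟩ : ∃ x : D.K, x * x ≠ 1 := by
    by_contra hall
    push Not at hall
    have hsub : (Finset.univ : Finset D.K) ⊆ {1, D.tK} := fun x _ => by
      rcases D.invol_K x.2 (congrArg Subtype.val (hall x)) with e | e
      · simp [show x = 1 from Subtype.ext e]
      · simp [show x = D.tK from Subtype.ext e]
    have := Finset.card_le_card hsub
    rw [Finset.card_univ, ← Nat.card_eq_fintype_card] at this
    have := Finset.card_le_two (a := (1 : D.K)) (b := D.tK)
    omega
  obtain ⟨lam, hl⟩ := exists_hom_ne_one (g := x * x)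
    (by rwa [commutator_eq_bot D.dih, Subgroup.mem_bot])
  exact ⟨lam, fun h => hl (by rw [map_mul]; exact DFunLike.congr_fun h x)⟩

/-- The constant in the order formula. -/
theorem sum_kappa (lam : D.K →* ℂˣ) (hl : lam ≠ 1) :
    ∑ χ ∈ irrFinset G, Cfsg.classInner (D.f lam) χ * χ D.t ^ 2 / χ 1 =
      4 * (Nat.card D.K : ℂ) ^ 3 / Nat.card G := by
  classical
  set P : G → ℂ := fun g =>
    (Nat.card {p : G × G // IsConj D.t p.1 ∧ IsConj D.t p.2 ∧ p.1 * p.2 = g} : ℂ) with hP
  have hk : (Nat.card D.K : ℂ) ≠ 0 := by exact_mod_cast (Nat.card_pos (α := D.K)).ne'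
  have hG : (Nat.card G : ℂ) ≠ 0 := by exact_mod_cast (Nat.card_pos (α := G)).ne'
  have hcl : (Nat.card {x : G // IsConj D.t x} : ℂ) * (2 * Nat.card D.K) = Nat.card G := by
    have h := card_conj_class_mul_card_centralizer D.t
    rw [D.card_H] at h
    exact_mod_cast h
  have hPeq : ∀ g, P g = (Nat.card {x : G // IsConj D.t x} : ℂ) ^ 2 / Nat.card G *
      ∑ χ ∈ irrFinset G, χ D.t * χ D.t * conj (χ g) / χ 1 := by
    intro g; rw [hP]; simp only; rw [card_class_products]; ring
  -- the left side as a sum over `K`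
  have h1 : (Nat.card G : ℂ)⁻¹ * ∑ g : G, D.f lam g * P g =
      (Nat.card {x : G // IsConj D.t x} : ℂ) ^ 2 / Nat.card G *
        ∑ χ ∈ irrFinset G, Cfsg.classInner (D.f lam) χ * χ D.t ^ 2 / χ 1 := by
    simp only [hPeq, Finset.mul_sum, classInner_def, Finset.sum_mul, Finset.sum_div]
    rw [Finset.sum_comm]
    exact Finset.sum_congr rfl fun χ _ => Finset.sum_congr rfl fun g _ => by ring
  have hPreal : ∀ g, conj (P g) = P g := fun g => by rw [hP]; simp
  have hPcl : Cfsg.IsClassFunction G P := by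
    intro g h
    rw [hPeq, hPeq]
    congr 1
    exact Finset.sum_congr rfl fun χ hχ => by
      rw [IsIrrCharacter.isClassFunction (mem_irrFinset.1 hχ) g h]
  have h2 : (Nat.card G : ℂ)⁻¹ * ∑ g : G, D.f lam g * P g = Nat.card D.K := by
    have h := inner_indFun (A := D.K) (fun a => 1 - (lam a : ℂ)) hPcl
    rw [classInner_def] at h
    simp only [hPreal] at h
    rw [f, fTI, h]
    have h3 : ∀ a : D.K, (1 - (lam a : ℂ)) * P a = (Nat.card D.K : ℂ) * (1 - (lam a : ℂ)) := by
      intro a
      by_cases ha : a = 1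
      · subst ha; simp
      · rw [hP]
        simp only
        rw [D.card_pairs a.2 (fun e => ha (Subtype.ext e))]
        ring
    rw [Finset.sum_congr rfl fun a _ => h3 a, ← Finset.mul_sum, Finset.sum_sub_distrib, sum_hom,
      if_neg hl, Finset.sum_const, Finset.card_univ, nsmul_eq_mul, mul_one, sub_zero,
      ← Nat.card_eq_fintype_card]
    field_simp
  rw [h2] at h1
  have hcl0 : (Nat.card {x : G // IsConj D.t x} : ℂ) ≠ 0 := fun e => hG (by rw [← hcl, e, zero_mul])
  field_simp at h1 ⊢
  set S := ∑ χ ∈ irrFinset G, Cfsg.classInner (D.f lam) χ * χ D.t ^ 2 / χ 1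
  apply mul_left_cancel₀ (pow_ne_zero 2 hcl0)
  linear_combination (-(Nat.card G : ℂ)) * h1 -
    (Nat.card D.K : ℂ) * ((Nat.card G : ℂ) + (Nat.card {x : G // IsConj D.t x} : ℂ) * (2 * Nat.card D.K)) * hcl

/-- The exceptional characters. -/
structure Exc (D : Data G) [Fintype D.K] [Fintype (D.K →* ℂˣ)] where
  /-- the real character -/
  ε : D.K →* ℂˣ
  ε_ne : ε ≠ 1
  ε_sq : ε * ε = 1
  real : ∀ lam : D.K →* ℂˣ, lam * lam = 1 → lam = 1 ∨ lam = ε
  /-- the common character -/
  psi : G → ℂ
  /-- a character for `ε` -/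
  b : G → ℂ
  /-- the other character for `ε` -/
  c : G → ℂ
  /-- the exceptional characters -/
  phi : (D.K →* ℂˣ) → G → ℂ
  psi_s : IsSignedIrr psi
  b_s : IsSignedIrr b
  c_s : IsSignedIrr c
  phi_s : ∀ a, a * a ≠ 1 → IsSignedIrr (phi a)
  one_psi : Cfsg.classInner (oneFun G) psi = 0
  one_b : Cfsg.classInner (oneFun G) b = 0
  one_c : Cfsg.classInner (oneFun G) c = 0
  one_phi : ∀ a, a * a ≠ 1 → Cfsg.classInner (oneFun G) (phi a) = 0
  psi_b : Cfsg.classInner psi b = 0
  psi_c : Cfsg.classInner psi c = 0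
  b_c : Cfsg.classInner b c = 0
  psi_phi : ∀ a, a * a ≠ 1 → Cfsg.classInner psi (phi a) = 0
  f_nonreal : ∀ a, a * a ≠ 1 → D.f a = oneFun G + psi + phi a
  f_eps : D.f ε = oneFun G + psi + b + c

theorem exists_exc (hk : 3 ≤ Nat.card D.K) : Nonempty (Exc D) := by
  classical
  obtain ⟨ε, hε1, hε2, hreal⟩ := D.exists_real_hom
  obtain ⟨a₀, ha₀⟩ := D.exists_nonreal hk
  have hne : ∀ a : D.K →* ℂˣ, a * a ≠ 1 → a ≠ 1 := fun a h => dual_sq_ne h
  have hf1 : ∀ a, a ≠ 1 → Cfsg.classInner (D.f a) (oneFun G) = 1 := fun a ha => inner_fTI_one a ha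
  have h1f : ∀ a, a ≠ 1 → Cfsg.classInner (oneFun G) (D.f a) = 1 := fun a ha =>
    classInner_oneFun_fTI a ha
  have h11 : Cfsg.classInner (oneFun G) (oneFun G) = 1 := classInner_one_one
  have hτg : ∀ a, Cfsg.IsGeneralizedCharacter G (D.f a - oneFun G) := fun a =>
    IsGeneralized.sub (fTI_isGeneralized a) (signed_isGeneralized signed_one)
  have hτ1 : ∀ a, a ≠ 1 → Cfsg.classInner (D.f a - oneFun G) (oneFun G) = 0 := fun a ha => by
    rw [classInner_sub_left, hf1 a ha, h11, sub_self]
  have hττ : ∀ a b, a ≠ 1 → b ≠ 1 → Cfsg.classInner (D.f a - oneFun G) (D.f b - oneFun G) =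
      1 + (if a = b then 1 else 0) + (if a * b = 1 then 1 else 0) := by
    intro a b ha hb
    rw [classInner_sub_left, classInner_sub_right, classInner_sub_right, hf1 a ha, h1f b hb, h11,
      inner_fTI_fTI D.dih a b ha hb]
    ring
  have hnorm : ∀ a : D.K →* ℂˣ, a * a ≠ 1 →
      Cfsg.classInner (D.f a - oneFun G) (D.f a - oneFun G) = 2 := fun a ha => by
    rw [hττ a a (hne a ha) (hne a ha), if_pos rfl, if_neg ha]; norm_num
  have hεε : Cfsg.classInner (D.f ε - oneFun G) (D.f ε - oneFun G) = 3 := by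
    rw [hττ ε ε hε1 hε1, if_pos rfl, if_pos hε2]; norm_num
  have haε : ∀ a : D.K →* ℂˣ, a * a ≠ 1 →
      Cfsg.classInner (D.f a - oneFun G) (D.f ε - oneFun G) = 1 := fun a ha => by
    have e1 : a ≠ ε := fun e => ha (e.symm ▸ hε2)
    have e2 : a * ε ≠ 1 := fun e => e1 ((dual_eq_inv e).trans (dual_inv_eq hε2))
    rw [hττ a ε (hne a ha) hε1, if_neg e1, if_neg e2]
    norm_num
  obtain ⟨A, B, hA, hB, hAB, hA0⟩ := exists_pair (hτg a₀) (hnorm a₀ ha₀)
  -- choose the sign convention
  obtain ⟨A, B, hA, hB, hAB, hA0, hεA, hεB⟩ : ∃ A B, IsSignedIrr A ∧ IsSignedIrr B ∧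
      Cfsg.classInner A B = 0 ∧ D.f a₀ - oneFun G = A + B ∧
      Cfsg.classInner A (D.f ε - oneFun G) = 1 ∧ Cfsg.classInner B (D.f ε - oneFun G) = 0 := by
    obtain ⟨E1, E2, E3, h1, h2, h3, h12, h13, h23, hE⟩ := exists_triple (hτg ε) hεε
    have hval : ∀ S, IsSignedIrr S → ∃ n : ℤ,
        Cfsg.classInner S (D.f ε - oneFun G) = n ∧ (n = 0 ∨ n = 1 ∨ n = -1) := by
      intro S hS
      rw [hE, classInner_add_right, classInner_add_right]
      rcases one_of_orth h1 h2 hS h12 with e | e <;>
        rcases one_of_orth h1 h3 hS h13 with e' | e' <;>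
        rcases one_of_orth h2 h3 hS h23 with e'' | e''
      all_goals
        simp only [classInner_symm (signed_isGeneralized hS) (signed_isGeneralized h1),
          classInner_symm (signed_isGeneralized hS) (signed_isGeneralized h2),
          classInner_symm (signed_isGeneralized hS) (signed_isGeneralized h3),
          e, e', e'', zero_add, add_zero]
        first
          | exact inner_int h1 hS
          | exact inner_int h2 hS
          | exact inner_int h3 hS
          | exact ⟨0, by norm_num, by norm_num⟩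
    obtain ⟨n, hn, hnc⟩ := hval A hA
    obtain ⟨m, hm, hmc⟩ := hval B hB
    have hsum := haε a₀ ha₀
    rw [hA0, classInner_add_left, hn, hm] at hsum
    have hnm : n + m = 1 := by exact_mod_cast hsum
    obtain ⟨rfl, rfl⟩ | ⟨rfl, rfl⟩ : (n = 1 ∧ m = 0) ∨ (n = 0 ∧ m = 1) := by omega
    · exact ⟨A, B, hA, hB, hAB, hA0, by rw [hn]; norm_num, by rw [hm]; norm_num⟩
    · exact ⟨B, A, hB, hA, by rw [← classInner_conj A B, hAB, map_zero], by rw [hA0, add_comm],
        by rw [hm]; norm_num, by rw [hn]; norm_num⟩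
  have hAg := signed_isGeneralized hA
  have hBg := signed_isGeneralized hB
  have hA1 : Cfsg.classInner A (oneFun G) = 0 ∧ Cfsg.classInner B (oneFun G) = 0 :=
    pair_orth hA hB signed_one hAB (by rw [← hA0]; exact hτ1 a₀ (hne a₀ ha₀))
  -- every non-real character contains `A`
  have hmain : ∀ ν : D.K →* ℂˣ, ν * ν ≠ 1 → Cfsg.classInner (D.f ν - oneFun G) A = 1 := by
    have hval : ∀ ν : D.K →* ℂˣ, ν * ν ≠ 1 →
        (Cfsg.classInner (D.f ν - oneFun G) A = 1 ∧ Cfsg.classInner (D.f ν - oneFun G) B = 0) ∨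
        (Cfsg.classInner (D.f ν - oneFun G) A = 0 ∧ Cfsg.classInner (D.f ν - oneFun G) B = 1) ∨
        ν = a₀ ∨ ν * a₀ = 1 := by
      intro ν hν
      by_cases e1 : ν = a₀
      · exact Or.inr (Or.inr (Or.inl e1))
      by_cases e2 : ν * a₀ = 1
      · exact Or.inr (Or.inr (Or.inr e2))
      obtain ⟨P, Q, hP, hQ, hPQ, hν0⟩ := exists_pair (hτg ν) (hnorm ν hν)
      have h := hττ ν a₀ (hne ν hν) (hne a₀ ha₀)
      rw [if_neg e1, if_neg e2, hA0, classInner_add_right] at h
      obtain ⟨n, hn, hnc⟩ := pair_value hP hQ hA hPQ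
      obtain ⟨m, hm, hmc⟩ := pair_value hP hQ hB hPQ
      rw [← hν0] at hn hm
      rw [hn, hm] at h
      have hnm : n + m = 1 := by
        have h' : ((n + m : ℤ) : ℂ) = ((1 : ℤ) : ℂ) := by push_cast; linear_combination h
        exact_mod_cast h'
      rw [hn, hm]
      obtain ⟨rfl, rfl⟩ | ⟨rfl, rfl⟩ : (n = 1 ∧ m = 0) ∨ (n = 0 ∧ m = 1) := by omega
      · left; norm_num
      · right; left; norm_num
    have hAA := IsSignedIrr.classInner_self hA
    have hBB := IsSignedIrr.classInner_self hB
    have hBA : Cfsg.classInner B A = 0 := by rw [← classInner_conj A B, hAB, map_zero]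
    have hfa : ∀ ν, ν = a₀ ∨ ν * a₀ = 1 → D.f ν = D.f a₀ := by
      rintro ν (rfl | e)
      · rfl
      · rw [dual_eq_inv e]; exact fTI_inv D.dih a₀
    intro ν hν
    by_contra hcon
    have hνB : Cfsg.classInner (D.f ν - oneFun G) A = 0 ∧ Cfsg.classInner (D.f ν - oneFun G) B = 1 := by
      rcases hval ν hν with h | h | h
      · exact absurd h.1 hcon
      · exact h
      · exact absurd (by rw [hfa ν h, hA0, classInner_add_left, hAA, hBA, add_zero]) hcon
    -- the other constituent of `f ν`
    set C := D.f ν - oneFun G - B with hC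
    have hνν := hnorm ν hν
    have hCs : IsSignedIrr C := by
      refine exists_single (IsGeneralized.sub (hτg ν) hBg) ?_
      rw [hC, classInner_sub_left, classInner_sub_right (D.f ν - oneFun G) (D.f ν - oneFun G) B,
        classInner_sub_right B (D.f ν - oneFun G) B, hνν, hνB.2, hBB,
        classInner_symm hBg (hτg ν), hνB.2]
      ring
    have hCg := signed_isGeneralized hCs
    have hCA : Cfsg.classInner C A = 0 := by rw [hC, classInner_sub_left, hνB.1, hBA, sub_zero]
    -- every non-real character contains `B`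
    have hall : ∀ μ : D.K →* ℂˣ, μ * μ ≠ 1 → Cfsg.classInner (D.f μ - oneFun G) B = 1 := by
      intro μ hμ
      rcases hval μ hμ with h | h | h
      · exfalso
        have e1 : μ ≠ ν := fun e => hcon (e ▸ h.1)
        have e2 : μ * ν ≠ 1 := fun e => hcon (by
          have := dual_eq_inv e
          rw [this, f, fTI_inv D.dih] at h
          exact h.1)
        have hμν := hττ μ ν (hne μ hμ) (hne ν hν)
        rw [if_neg e1, if_neg e2, show D.f ν - oneFun G = B + C by rw [hC]; abel,
          classInner_add_right, h.2, zero_add, add_zero, add_zero] at hμν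
        have hz : D.f μ - oneFun G - A - C = 0 := by
          apply classInner_self_eq_zero
          have hAC : Cfsg.classInner A C = 0 := by rw [classInner_symm hAg hCg, hCA]
          simp only [classInner_sub_left, classInner_sub_right] at hμν h hAC hCA ⊢
          have e3 := hnorm μ hμ
          have e4 := classInner_symm hAg (hτg μ)
          have e5 := classInner_symm hCg (hτg μ)
          simp only [classInner_sub_left, classInner_sub_right] at e3 e4 e5
          linear_combination e3 - e4 - 2 * h.1 - e5 - 2 * hμν + hAA + IsSignedIrr.classInner_self hCs +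
            hAC + hCA
        have d0 := congrFun hA0 1
        have dν := congrFun hC 1
        have dμ := congrFun hz 1
        simp only [Pi.sub_apply, Pi.add_apply, Pi.zero_apply, f, fTI_one, oneFun] at d0 dν dμ
        obtain ⟨n, hn⟩ := IsGeneralized.exists_apply_one hAg
        have h2n : ((2 * n : ℤ) : ℂ) = ((-1 : ℤ) : ℂ) := by
          push_cast
          rw [← hn]
          linear_combination -d0 - dν - dμ
        have : 2 * n = -1 := by exact_mod_cast h2n
        omega
      · exact h.2
      · rw [hfa μ h, hA0, classInner_add_left, hAB, hBB, zero_add]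
    -- the values at `t`
    have hcB : ∀ lam, Cfsg.classInner (D.f lam) B = (((if lam * lam = 1 then 0 else 1) : ℤ) : ℂ) := by
      intro lam
      have h1B : Cfsg.classInner (oneFun G) B = 0 := by
        rw [classInner_symm (signed_isGeneralized signed_one) hBg, hA1.2]
      by_cases hl : lam * lam = 1
      · rw [if_pos hl]
        rcases hreal lam hl with rfl | rfl
        · rw [f, fTI_trivial, classInner_zero_left]; norm_num
        · have h := hεB
          rw [classInner_symm hBg (hτg lam), classInner_sub_left, h1B, sub_zero] at h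
          rw [h]; norm_num
      · rw [if_neg hl]
        have h := hall lam hl
        rw [classInner_sub_left, h1B, sub_zero] at h
        rw [h]; norm_num
    have hBcl := IsGeneralized.isClassFunction hBg
    have hBt : B D.t = 1 + (ε D.tK : ℂ) := by
      have h := apply_of_int D.dih hBcl hcB D.tK D.tK_ne_one
      change B D.t = _ at h
      rw [h]
      have hs : ∑ lam : D.K →* ℂˣ, (lam D.tK : ℂ) = 0 := by
        rw [sum_dual D.dih, if_neg D.tK_ne_one]
      have hsplit : ∀ lam : D.K →* ℂˣ, (lam D.tK : ℂ) * (((if lam * lam = 1 then 0 else 1) : ℤ) : ℂ) =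
          (lam D.tK : ℂ) - (if lam = 1 then 1 else 0) -
            (if lam = ε then (ε D.tK : ℂ) else 0) := by
        intro lam
        by_cases hl : lam * lam = 1
        · rw [if_pos hl]
          rcases hreal lam hl with rfl | rfl
          · rw [if_pos rfl, if_neg (fun e => hε1 e.symm)]; simp
          · rw [if_neg hε1, if_pos rfl]; simp
        · rw [if_neg hl, if_neg (dual_sq_ne hl), if_neg (fun (e : lam = ε) => hl (e.symm ▸ hε2))]
          simp
      rw [Finset.sum_congr rfl fun lam _ => hsplit lam, Finset.sum_sub_distrib, Finset.sum_sub_distrib,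
        hs, Finset.sum_ite_eq' Finset.univ (1 : D.K →* ℂˣ), Finset.sum_ite_eq' Finset.univ ε,
        if_pos (Finset.mem_univ _), if_pos (Finset.mem_univ _)]
      ring
    have hkap : ∀ μ : D.K →* ℂˣ, μ * μ ≠ 1 →
        1 + B D.t ^ 2 / B 1 + (-2 * (μ D.tK : ℂ) - (ε D.tK : ℂ)) ^ 2 / (-1 - B 1) =
          4 * (Nat.card D.K : ℂ) ^ 3 / Nat.card G := by
      intro μ hμ
      set Cμ := D.f μ - oneFun G - B with hCμ
      have hμμ := hnorm μ hμ
      have hCμs : IsSignedIrr Cμ := by
        refine exists_single (IsGeneralized.sub (hτg μ) hBg) ?_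
        rw [hCμ, classInner_sub_left, classInner_sub_right (D.f μ - oneFun G) (D.f μ - oneFun G) B,
          classInner_sub_right B (D.f μ - oneFun G) B, hμμ, hall μ hμ, hBB,
          classInner_symm hBg (hτg μ), hall μ hμ]
        ring
      rw [← D.sum_kappa μ (hne μ hμ)]
      have hdec : D.f μ = oneFun G + B + Cμ := by rw [hCμ]; abel
      rw [hdec]
      simp only [classInner_add_left, add_mul, add_div, Finset.sum_add_distrib]
      have hq : ∀ χ : G → ℂ, (-χ) D.t ^ 2 = χ D.t ^ 2 := fun χ => by simp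
      rw [sum_signed signed_one (fun χ => χ D.t ^ 2) hq, sum_signed hB (fun χ => χ D.t ^ 2) hq,
        sum_signed hCμs (fun χ => χ D.t ^ 2) hq]
      have e1 : Cμ D.t = -2 * (μ D.tK : ℂ) - (ε D.tK : ℂ) := by
        rw [hCμ]
        simp only [Pi.sub_apply, oneFun]
        rw [hBt, show D.f μ D.t = fTI D.K μ D.tK from rfl, fTI_apply_mem D.dih μ D.tK D.tK_ne_one,
          D.tK_inv]
        ring
      have e2 : Cμ 1 = -1 - B 1 := by rw [hCμ]; simp [f, fTI_one, oneFun]
      rw [e1, e2]
      simp [oneFun]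
    obtain ⟨p, hp, hp1⟩ : ∃ p : D.K →* ℂˣ, p * p ≠ 1 ∧ (p D.tK : ℂ) = 1 := by
      rcases D.hom_t_cases a₀ with e | e
      · exact ⟨a₀, ha₀, e⟩
      rcases D.hom_t_cases ν with e' | e'
      · exact ⟨ν, hν, e'⟩
      have hneq : a₀ ≠ ν ∧ a₀ * ν ≠ 1 := by
        constructor
        · intro h; exact hcon (by rw [← h, hA0, classInner_add_left, hAA, hBA, add_zero])
        · intro h
          have h' : ν = a₀⁻¹ := dual_eq_inv' h
          exact hcon (by rw [h', f, fTI_inv D.dih]; change Cfsg.classInner (D.f a₀ - _) A = 1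
                         rw [hA0, classInner_add_left, hAA, hBA, add_zero])
      by_cases h1 : a₀ * ν * (a₀ * ν) = 1
      · refine ⟨a₀ * ν⁻¹, fun h2 => ?_, ?_⟩
        · have r1 := (hreal _ h1).resolve_left hneq.2
          have r2 := (hreal _ h2).resolve_left (fun h => hneq.1 (dual_mul_inv_eq_one.1 h))
          exact hν (dual_self_inv (dual_cancel (r1.trans r2.symm)))
        · simp [e, e']
      · exact ⟨a₀ * ν, h1, by simp [e, e']⟩
    obtain ⟨q, hq, hq1⟩ : ∃ q : D.K →* ℂˣ, q * q ≠ 1 ∧ (q D.tK : ℂ) = -1 := by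
      obtain ⟨χ, hχ⟩ := exists_hom_ne_one (g := D.tK)
        (by rw [commutator_eq_bot D.dih, Subgroup.mem_bot]; exact D.tK_ne_one)
      have hχ' : (χ D.tK : ℂ) = -1 := (D.hom_t_cases χ).resolve_left fun e => hχ (Units.ext e)
      by_cases h : χ * χ = 1
      · refine ⟨p * χ, fun h2 => hp ?_, by simp [hp1, hχ']⟩
        rw [dual_mul_sq h] at h2
        exact h2
      · exact ⟨χ, h, hχ'⟩
    have k1 := hkap p hp
    have k2 := hkap q hq
    rw [hp1] at k1
    rw [hq1] at k2
    have hden : (-1 - B 1 : ℂ) ≠ 0 := by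
      intro h0
      have := congrFun hC 1
      simp only [Pi.sub_apply, f, fTI_one, oneFun, zero_sub] at this
      exact IsSignedIrr.apply_one_ne_zero hCs (this.trans h0)
    have k3 := k1.trans k2.symm
    rw [add_right_inj, div_left_inj' hden] at k3
    rcases D.hom_t_cases ε with e | e <;> rw [e] at k3 <;> norm_num at k3
  -- assemble
  have hAε : Cfsg.classInner (D.f ε - oneFun G) A = 1 := by
    rw [classInner_symm (hτg ε) hAg, hεA]
  have hAA := IsSignedIrr.classInner_self hA
  obtain ⟨b, c, hb, hc, hbc, hrest⟩ := exists_pair (IsGeneralized.sub (hτg ε) hAg) (by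
    rw [classInner_sub_left, classInner_sub_right (D.f ε - oneFun G) (D.f ε - oneFun G) A,
      classInner_sub_right A (D.f ε - oneFun G) A, hεε, hAε, hεA, hAA]; norm_num)
  have hbA := pair_orth hb hc hA hbc (by rw [← hrest, classInner_sub_left, hAε, hAA, sub_self])
  have hb1 := pair_orth hb hc signed_one hbc (by
    rw [← hrest, classInner_sub_left, hτ1 ε hε1, hA1.1, sub_self])
  refine ⟨{
    ε := ε, ε_ne := hε1, ε_sq := hε2, real := hreal
    psi := A, b := b, c := c, phi := fun a => D.f a - oneFun G - A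
    psi_s := hA, b_s := hb, c_s := hc
    phi_s := fun a ha => exists_single (IsGeneralized.sub (hτg a) hAg) ?_
    one_psi := by rw [classInner_symm (signed_isGeneralized signed_one) hAg, hA1.1]
    one_b := by rw [classInner_symm (signed_isGeneralized signed_one) (signed_isGeneralized hb), hb1.1]
    one_c := by rw [classInner_symm (signed_isGeneralized signed_one) (signed_isGeneralized hc), hb1.2]
    one_phi := fun a ha => ?_
    psi_b := by rw [classInner_symm hAg (signed_isGeneralized hb), hbA.1]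
    psi_c := by rw [classInner_symm hAg (signed_isGeneralized hc), hbA.2]
    b_c := hbc
    psi_phi := fun a ha => ?_
    f_nonreal := fun a _ => by abel
    f_eps := by rw [add_assoc _ b, ← hrest]; abel }⟩
  · rw [classInner_sub_left, classInner_sub_right (D.f a - oneFun G) (D.f a - oneFun G) A,
      classInner_sub_right A (D.f a - oneFun G) A, hnorm a ha, hmain a ha, hAA,
      classInner_symm hAg (hτg a), hmain a ha]
    norm_num
  · rw [classInner_symm (signed_isGeneralized signed_one) (IsGeneralized.sub (hτg a) hAg),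
      classInner_sub_left, hτ1 a (hne a ha), hA1.1, sub_self]
  · rw [classInner_sub_right, classInner_symm hAg (hτg a), hmain a ha, hAA, sub_self]

end Data

end CfsgLib.Wall
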