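import Cfsg.Agent.Wall.Values

/-!
Normalizers of the centralizers of inverted elements, and the conclusion of the theorem.
-/

set_option autoImplicit false
set_option linter.unusedSectionVars false
set_option linter.style.haveILetI false
set_option linter.deprecated false

namespace CfsgLib.Wall

open Subgroup

universe u

/-- The conclusion of the theorem. -/
def Concl (G : Type u) [Group G] : Prop :=
  ∃ Q D : Subgroup G, 2 * Nat.card G = Nat.card ↥Q * (Nat.card ↥Q + 1) * (Nat.card ↥Q - 1) ∧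
    (∀ x ∈ Q, x ≠ 1 → Subgroup.centralizer ({x} : Set G) = Q) ∧
    IsMulCommutative ↥D ∧ 2 * Nat.card ↥D + 1 = Nat.card ↥Q ∧ Q ⊓ D = ⊥ ∧
    Subgroup.normalizer (Q : Set G) = Q ⊔ D ∧
    ∀ X : Subgroup G, X ≤ D → X ≠ ⊥ →
      Subgroup.normalizer (X : Set G) = Subgroup.normalizer (D : Set G) ∧
      ∃ u : G, orderOf u = 2 ∧ u ∉ D ∧ (∀ d ∈ D, u * d * u⁻¹ = d⁻¹) ∧
        Subgroup.normalizer (D : Set G) = D ⊔ Subgroup.zpowers u

theorem exists_ne_one {G : Type u} [Group G] {X : Subgroup G} (h : X ≠ ⊥) : ∃ x ∈ X, x ≠ 1 := by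
  by_contra hall
  push Not at hall
  exact h ((eq_bot_iff_forall X).2 hall)

theorem conj_mem_centralizer {G : Type u} [Group G] {z c y : G}
    (h : y ∈ centralizer ({c} : Set G)) : z * y * z⁻¹ ∈ centralizer ({z * c * z⁻¹} : Set G) :=
  mem_centralizer_singleton_iff.2 (conj_commute (mem_centralizer_singleton_iff.1 h) z)

/-- An element moving a non-identity element of a trivial intersection centralizer into it
normalizes it. -/
theorem mem_normalizer_of_conj {G : Type u} [Group G] {Q : Subgroup G}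
    (hTI : ∀ c ∈ Q, c ≠ 1 → centralizer ({c} : Set G) = Q) {c z : G} (hc : c ∈ Q) (hc1 : c ≠ 1)
    (hz : z * c * z⁻¹ ∈ Q) : z ∈ normalizer (Q : Set G) := by
  have h2 : z * c * z⁻¹ ≠ 1 := fun e => hc1 (conj_eq_one_iff.1 e)
  refine mem_normalizer_iff.2 fun y => ⟨fun hy => ?_, fun hy => ?_⟩
  · have := conj_mem_centralizer (z := z) (show y ∈ centralizer ({c} : Set G) by rwa [hTI c hc hc1])
    rwa [hTI _ hz h2] at this
  · have := conj_mem_centralizer (z := z⁻¹)
      (show z * y * z⁻¹ ∈ centralizer ({z * c * z⁻¹} : Set G) by rwa [hTI _ hz h2])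
    simp only [inv_inv] at this
    rw [show z⁻¹ * (z * y * z⁻¹) * z = y by group, show z⁻¹ * (z * c * z⁻¹) * z = c by group,
      hTI c hc hc1] at this
    exact this

namespace Data

variable {G : Type u} [Group G] [Fintype G] (D : Data G)

/-- An involution inverts an element off the torus that it maps into the centralizer. -/
theorem invol_inverts {g v : G} (hg : ¬ InConj D.K g) (hv2 : v * v = 1) (hv1 : v ≠ 1)
    (hv : v * g * v⁻¹ ∈ centralizer ({g} : Set G)) : v * g * v⁻¹ = g⁻¹ := by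
  have hvi : v⁻¹ = v := inv_eq_of_mul_eq_one_right hv2
  set g' := v * g * v⁻¹ with hg'
  have hc : g * g' ∈ centralizer ({g} : Set G) :=
    mul_mem (mem_centralizer_singleton_iff.2 rfl) hv
  have hcom : g' * g = g * g' := mem_centralizer_singleton_iff.1 hv
  have hfix : v * (g * g') = g * g' * v := by
    rw [← mul_inv_eq_iff_eq_mul]
    calc v * (g * g') * v⁻¹ = g' * (v * g' * v⁻¹) := by rw [hg']; group
      _ = g' * g := by
        rw [hg', hvi]
        calc v * g * v * (v * (v * g * v) * v) = v * g * v * ((v * v) * g * (v * v)) := by group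
          _ = _ := by rw [hv2, one_mul, mul_one]
      _ = g * g' := hcom
  by_contra hne
  have hcne : g * g' ≠ 1 := fun e => hne (eq_inv_of_mul_eq_one_right e)
  exact D.centralizer_out hg hc hcne (D.inConj_of_commute hv2 hv1 hfix.symm)

theorem t_inv : D.t⁻¹ = D.t := inv_eq_of_mul_eq_one_right D.t_sq

theorem t_mem_normalizer {g : G} (hg : ¬ InConj D.K g) (ht : D.t * g * D.t⁻¹ = g⁻¹) :
    D.t ∈ normalizer ((centralizer ({g} : Set G)) : Set G) := by
  have h := (D.pairs_spec hg ht).1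
  refine mem_normalizer_iff.2 fun y => ⟨fun hy => by rw [h y hy]; exact inv_mem hy, fun hy => ?_⟩
  have h2 := h _ hy
  have h3 : D.t * (D.t * y * D.t⁻¹) * D.t⁻¹ = y := by
    rw [D.t_inv]
    calc D.t * (D.t * y * D.t) * D.t = (D.t * D.t) * y * (D.t * D.t) := by group
      _ = y := by rw [D.t_sq, one_mul, mul_one]
  rw [h3] at h2
  rw [h2]; exact inv_mem hy

theorem exists_split {g : G} (hg : ¬ InConj D.K g) (ht : D.t * g * D.t⁻¹ = g⁻¹) {n : G}
    (hn : n ∈ normalizer ((centralizer ({g} : Set G)) : Set G)) :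
    ∃ e ∈ centralizer ({g} : Set G),
      e⁻¹ * n ∈ normalizer ((centralizer ({g} : Set G)) : Set G) ⊓ centralizer ({D.t} : Set G) := by
  set Q := centralizer ({g} : Set G) with hQ
  have hinv := (D.pairs_spec hg ht).1
  have hgQ : g ∈ Q := mem_centralizer_singleton_iff.2 rfl
  -- `n t n⁻¹` inverts `g`
  have h1 : n⁻¹ * g * n ∈ Q := by
    have := (mem_normalizer_iff.1 (inv_mem hn) g).1 hgQ
    rwa [inv_inv] at this
  have hw : n * D.t * n⁻¹ * g * (n * D.t * n⁻¹)⁻¹ = g⁻¹ := by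
    calc n * D.t * n⁻¹ * g * (n * D.t * n⁻¹)⁻¹ = n * (D.t * (n⁻¹ * g * n) * D.t⁻¹) * n⁻¹ := by group
      _ = n * (n⁻¹ * g * n)⁻¹ * n⁻¹ := by rw [hinv _ h1]
      _ = g⁻¹ := by group
  set e' := n * D.t * n⁻¹ * D.t with he'
  have he'Q : e' ∈ Q := by
    rw [hQ, mem_centralizer_singleton_iff, ← mul_inv_eq_iff_eq_mul, he']
    calc n * D.t * n⁻¹ * D.t * g * (n * D.t * n⁻¹ * D.t)⁻¹ =
          n * D.t * n⁻¹ * (D.t * g * D.t⁻¹) * (n * D.t * n⁻¹)⁻¹ := by group
      _ = (n * D.t * n⁻¹ * g * (n * D.t * n⁻¹)⁻¹)⁻¹ := by rw [ht]; group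
      _ = g := by rw [hw, inv_inv]
  -- `e'` has odd order
  have hodd : Odd (orderOf e') := by
    rw [← Nat.not_even_iff_odd]
    intro hev
    obtain ⟨m, hm⟩ := hev
    have hpos : 0 < orderOf e' := orderOf_pos e'
    have hv2 : e' ^ m * e' ^ m = 1 := by rw [← pow_add, ← hm, pow_orderOf_eq_one]
    have hv1 : e' ^ m ≠ 1 := fun e => by
      have := Nat.le_of_dvd (by omega) (orderOf_dvd_of_pow_eq_one e)
      omega
    exact D.centralizer_out hg (pow_mem he'Q m) hv1 (D.invol_inConj hv2 hv1)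
  obtain ⟨m, hm⟩ := hodd
  set e := e' ^ (m + 1) with he
  have heQ : e ∈ Q := pow_mem he'Q _
  refine ⟨e, heQ, mem_inf.2 ⟨mul_mem (inv_mem (show e ∈ normalizer (Q : Set G) from le_normalizer heQ)) hn, D.mem_H.2 ?_⟩⟩
  have hee : e * e = e' := by
    rw [he, ← pow_add, show m + 1 + (m + 1) = 2 * m + 1 + 1 by ring, pow_succ, ← hm, pow_orderOf_eq_one,
      one_mul]
  have hte : e * D.t * e⁻¹ = n * D.t * n⁻¹ := by
    have h := hinv _ (inv_mem heQ)
    rw [inv_inv] at h
    have h2 : D.t * e⁻¹ = e * D.t := mul_inv_eq_iff_eq_mul.1 h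
    calc e * D.t * e⁻¹ = e * (D.t * e⁻¹) := by group
      _ = e * e * D.t := by rw [h2, mul_assoc]
      _ = e' * D.t := by rw [hee]
      _ = n * D.t * n⁻¹ := by rw [he', mul_assoc, D.t_sq, mul_one]
  calc e⁻¹ * n * D.t = e⁻¹ * (n * D.t * n⁻¹) * n := by group
    _ = D.t * (e⁻¹ * n) := by rw [← hte]; group

theorem normalizer_inf_H_le {g : G} (hg : ¬ InConj D.K g) (ht : D.t * g * D.t⁻¹ = g⁻¹) :
    normalizer ((centralizer ({g} : Set G)) : Set G) ⊓ centralizer ({D.t} : Set G) ≤ D.K := by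
  rintro x ⟨hxN, hxH⟩
  by_contra hxK
  have hxtH : x * D.t ∈ centralizer ({D.t} : Set G) := mul_mem hxH (D.hKH D.htK)
  have hxtK : x * D.t ∉ D.K := fun h => hxK ((D.K.mul_mem_cancel_right D.htK).1 h)
  have hgQ : g ∈ centralizer ({g} : Set G) := mem_centralizer_singleton_iff.2 rfl
  have h1 := D.invol_inverts hg (D.outside hxH hxK).1 (fun e => hxK (e ▸ one_mem _))
    ((mem_normalizer_iff.1 hxN g).1 hgQ)
  have h2 := D.invol_inverts hg (D.outside hxtH hxtK).1 (fun e => hxtK (e ▸ one_mem _))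
    ((mem_normalizer_iff.1 (mul_mem hxN (D.t_mem_normalizer hg ht)) g).1 hgQ)
  have h3 : x * D.t * g * (x * D.t)⁻¹ = g := by
    calc x * D.t * g * (x * D.t)⁻¹ = x * (D.t * g * D.t⁻¹) * x⁻¹ := by group
      _ = (x * g * x⁻¹)⁻¹ := by rw [ht]; group
      _ = g := by rw [h1, inv_inv]
  rw [h3] at h2
  exact hg (D.invol_inConj (mul_eq_one_iff_eq_inv.2 h2) (ne_one_of_not_inConj hg))

theorem normalizer_le_sup {g : G} (hg : ¬ InConj D.K g) (ht : D.t * g * D.t⁻¹ = g⁻¹) :
    normalizer ((centralizer ({g} : Set G)) : Set G) ≤ centralizer ({g} : Set G) ⊔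
      (normalizer ((centralizer ({g} : Set G)) : Set G) ⊓ centralizer ({D.t} : Set G)) := by
  intro n hn
  obtain ⟨e, he, h⟩ := D.exists_split hg ht hn
  have := mul_mem (mem_sup_left (T := normalizer ((centralizer ({g} : Set G)) : Set G) ⊓
    centralizer ({D.t} : Set G)) he) (mem_sup_right h)
  rwa [mul_inv_cancel_left] at this

theorem card_normalizer_le {g : G} (hg : ¬ InConj D.K g) (ht : D.t * g * D.t⁻¹ = g⁻¹) :
    Nat.card ↥(normalizer ((centralizer ({g} : Set G)) : Set G)) ≤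
      Nat.card ↥(centralizer ({g} : Set G)) *
        Nat.card ↥(normalizer ((centralizer ({g} : Set G)) : Set G) ⊓ centralizer ({D.t} : Set G)) := by
  rw [← Nat.card_prod]
  refine Nat.card_le_card_of_surjective
    (fun p => (⟨(p.1 : G) * (p.2 : G), mul_mem (le_normalizer p.1.2) p.2.2.1⟩ :
      ↥(normalizer ((centralizer ({g} : Set G)) : Set G)))) fun n => ?_
  obtain ⟨e, he, h⟩ := D.exists_split hg ht n.2
  exact ⟨(⟨e, he⟩, ⟨_, h⟩), Subtype.ext (mul_inv_cancel_left e n)⟩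

theorem K_inf_eq_bot {g : G} (hg : ¬ InConj D.K g) : centralizer ({g} : Set G) ⊓ D.K = ⊥ := by
  refine (eq_bot_iff_forall _).2 fun x hx => ?_
  by_contra hx1
  exact D.centralizer_out hg hx.1 hx1 ⟨1, by simpa using hx.2⟩

theorem normalizer_le_H {X : Subgroup G} (hX : X ≤ D.K) (hX1 : X ≠ ⊥) :
    normalizer (X : Set G) = centralizer ({D.t} : Set G) := by
  obtain ⟨x, hx, hx1⟩ := exists_ne_one hX1
  refine le_antisymm (fun g hg => D.ti (hX hx) hx1 (hX ((mem_normalizer_iff.1 hg x).1 hx)))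
    fun g hg => ?_
  have key : ∀ g ∈ centralizer ({D.t} : Set G), ∀ y ∈ X, g * y * g⁻¹ ∈ X := by
    intro g hg y hy
    by_cases hgK : g ∈ D.K
    · rwa [D.comm_K hgK (hX hy), mul_inv_cancel_right]
    · rw [(D.outside hg hgK).2 y (hX hy)]; exact inv_mem hy
  refine mem_normalizer_iff.2 fun y => ⟨key g hg y, fun hy => ?_⟩
  have h := key g⁻¹ (inv_mem hg) _ hy
  rwa [show g⁻¹ * (g * y * g⁻¹) * g⁻¹⁻¹ = y by group] at h

theorem exists_conj_inverted {g v : G} (hg : ¬ InConj D.K g) (hv : v * g * v⁻¹ = g⁻¹) :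
    ∃ z : G, D.t * (z * g * z⁻¹) * D.t⁻¹ = (z * g * z⁻¹)⁻¹ := by
  obtain ⟨hv2, hv1⟩ := D.inverter_sq hg hv
  obtain ⟨z, hz⟩ := isConj_iff.1 (D.isConj_t hv2 hv1)
  refine ⟨z, ?_⟩
  calc D.t * (z * g * z⁻¹) * D.t⁻¹ = z * (v * g * v⁻¹) * z⁻¹ := by rw [← hz]; group
    _ = _ := by rw [hv]; group

end Data

end CfsgLib.Wall
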