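import Cfsg.Agent.Wall.MinusZero

/-!
Counting products inside the set where the common character of degree `1 - 2k` vanishes.
-/

set_option autoImplicit false
set_option linter.unusedSectionVars false
set_option linter.style.haveILetI false
set_option linter.deprecated false

namespace CfsgLib.Wall

open Subgroup CfsgLib.Char
open scoped ComplexConjugate

universe u

theorem card_filter_products {G : Type u} [Group G] [Fintype G] (a b c : G)
    [DecidablePred fun x : G => IsConj a x ∧ IsConj b (x⁻¹ * c)] :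
    (Finset.univ.filter fun x => IsConj a x ∧ IsConj b (x⁻¹ * c)).card =
      Nat.card {p : G × G // IsConj a p.1 ∧ IsConj b p.2 ∧ p.1 * p.2 = c} := by
  rw [← Fintype.card_subtype, ← Nat.card_eq_fintype_card]
  exact Nat.card_congr
    { toFun := fun x => ⟨(x.1, x.1⁻¹ * c), x.2.1, x.2.2, mul_inv_cancel_left _ _⟩
      invFun := fun p => ⟨p.1.1, p.2.1, by
        have h := p.2.2.1
        rwa [← inv_mul_cancel_left p.1.1 p.1.2, p.2.2.2] at h⟩
      left_inv := fun x => rfl
      right_inv := fun p => Subtype.ext (Prod.ext rfl (by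
        exact (eq_inv_mul_of_mul_eq p.2.2.2).symm)) }

namespace Data.Exc

variable {G : Type u} [Group G] [Fintype G] {D : Data G} [Fintype D.K] [Fintype (D.K →* ℂˣ)]
  {E : D.Exc} {A : Subgroup G}

open scoped Classical in
/-- The sum of an irreducible character over the zeros of the common character. -/
theorem Minus.sum_zero (M : Minus E) {χ : G → ℂ} (hχ : Cfsg.IsIrrCharacter G χ) :
    ∑ x ∈ (rest D.K).filter (fun x => E.psi x = 0), χ x =
      (Nat.card G : ℂ) * (Cfsg.classInner (oneFun G) χ + Cfsg.classInner E.psi χ) -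
        (2 - 2 * (Nat.card D.K : ℂ)) * χ 1 -
        (Nat.card G : ℂ) / (Nat.card D.K : ℂ) * ∑ lam : D.K →* ℂˣ, Cfsg.classInner (D.f lam) χ := by
  have hχg := IsIrrCharacter.isGeneralized hχ
  have hcl := IsIrrCharacter.isClassFunction hχ
  have hψg := signed_isGeneralized E.psi_s
  have htot : ∑ x : G, χ x * conj (1 + E.psi x) =
      (Nat.card G : ℂ) * (Cfsg.classInner (oneFun G) χ + Cfsg.classInner E.psi χ) := by
    have h1 : ∀ x, χ x * conj (1 + E.psi x) = χ x * conj (oneFun G x) + χ x * conj (E.psi x) :=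
      fun x => by rw [map_add, mul_add]
    rw [Finset.sum_congr rfl fun x _ => h1 x, Finset.sum_add_distrib, sum_eq_card_mul_classInner,
      sum_eq_card_mul_classInner, classInner_symm hχg (signed_isGeneralized signed_one),
      classInner_symm hχg hψg]
    ring
  rw [sum_split (A := D.K)] at htot
  have htor : ∑ x ∈ torus D.K, χ x * conj (1 + E.psi x) = 2 * ∑ x ∈ torus D.K, χ x := by
    rw [Finset.mul_sum]
    refine Finset.sum_congr rfl fun g hg => ?_
    obtain ⟨⟨x, hx⟩, hg1⟩ := mem_torus.1 hg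
    have hp : E.psi (x * g * x⁻¹) = 1 := E.psi_apply (x := ⟨_, hx⟩)
      fun e => hg1 (conj_eq_one_iff.1 (congrArg Subtype.val e))
    rw [IsGeneralized.isClassFunction hψg g x] at hp
    rw [hp, map_add, map_one]
    ring
  have hrest : ∑ x ∈ rest D.K, χ x * conj (1 + E.psi x) =
      ∑ x ∈ (rest D.K).filter (fun x => E.psi x = 0), χ x := by
    rw [Finset.sum_filter]
    refine Finset.sum_congr rfl fun g hg => ?_
    rcases M.psi_pairs (mem_rest.1 hg) with ⟨h, -⟩ | ⟨h, -⟩
    · rw [if_pos h, h]; simp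
    · rw [if_neg (by rw [h]; norm_num), h]; simp
  rw [htor, hrest, M.degree] at htot
  have hint : ∀ lam : D.K →* ℂˣ, ∃ n : ℤ, Cfsg.classInner (D.f lam) χ = n := fun lam =>
    IsGeneralized.exists_classInner_eq_int (fTI_isGeneralized lam) hχg
  choose c hc using hint
  have hK := sum_of_int D.dih hcl hc
  have ht := sum_torus D.dih hcl
  rw [hK, ← Finset.sum_congr rfl fun lam _ => hc lam, add_sub_cancel_left] at ht
  simp only [map_add, map_one, map_intCast] at htot
  push_cast at htot
  have hk0 : (Nat.card D.K : ℂ) ≠ 0 := by exact_mod_cast (Nat.card_pos (α := D.K)).ne'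
  have ht' : 2 * ∑ x ∈ torus D.K, χ x =
      (Nat.card G : ℂ) / (Nat.card D.K : ℂ) * ∑ lam : D.K →* ℂˣ, Cfsg.classInner (D.f lam) χ := by
    field_simp
    linear_combination ht
  linear_combination htot - ht'

open scoped Classical in
theorem Minus.count_products (M : Minus E) (S : Second E A) {g : G} (hg : ¬ InConj D.K g)
    (h0 : E.psi g = 0) :
    (Finset.univ.filter fun x => IsConj g x ∧ ¬ InConj D.K (x⁻¹ * g) ∧ E.psi (x⁻¹ * g) = 0).card =
      Nat.card D.K - 2 := by
  have h4 := M.four_le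
  obtain ⟨hnc, -, hC, hsplit⟩ := M.zero_facts S hg h0
  have hg' : ¬ InConj D.K g⁻¹ := fun ⟨y, hy⟩ => hg ⟨y, by
    have := inv_mem hy
    rwa [mul_inv_rev, mul_inv_rev, inv_inv, inv_inv, ← mul_assoc] at this⟩
  have h0' : E.psi g⁻¹ = 0 := by
    rw [IsGeneralized.apply_inv (signed_isGeneralized E.psi_s), h0, map_zero]
  set k := Nat.card D.K with hk
  -- split into two class products
  set P1 := Finset.univ.filter fun x => IsConj g x ∧ IsConj g (x⁻¹ * g) with hP1
  set P2 := Finset.univ.filter fun x => IsConj g x ∧ IsConj g⁻¹ (x⁻¹ * g) with hP2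
  have hT : (Finset.univ.filter fun x =>
      IsConj g x ∧ ¬ InConj D.K (x⁻¹ * g) ∧ E.psi (x⁻¹ * g) = 0) = P1 ∪ P2 := by
    ext x
    simp only [hP1, hP2, Finset.mem_union, Finset.mem_filter, Finset.mem_univ, true_and]
    constructor
    · rintro ⟨h1, h2, h3⟩
      rcases hsplit _ h2 h3 with e | e
      · exact Or.inl ⟨h1, e⟩
      · exact Or.inr ⟨h1, e⟩
    · rintro (⟨h1, e⟩ | ⟨h1, e⟩)
      · refine ⟨h1, ?_, ?_⟩
        · obtain ⟨y, hy⟩ := isConj_iff.1 e
          rw [← hy, inConj_iff_of_eq]; exact hg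
        · rw [← IsClassFunction.apply_eq_of_isConj
            (IsGeneralized.isClassFunction (signed_isGeneralized E.psi_s)) e, h0]
      · refine ⟨h1, ?_, ?_⟩
        · obtain ⟨y, hy⟩ := isConj_iff.1 e
          rw [← hy, inConj_iff_of_eq]; exact hg'
        · rw [← IsClassFunction.apply_eq_of_isConj
            (IsGeneralized.isClassFunction (signed_isGeneralized E.psi_s)) e, h0']
  have hdisj : Disjoint P1 P2 := Finset.disjoint_left.2 fun x h1 h2 =>
    hnc ((Finset.mem_filter.1 h1).2.2.trans (Finset.mem_filter.1 h2).2.2.symm)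
  rw [hT, Finset.card_union_of_disjoint hdisj, hP1, hP2, card_filter_products, card_filter_products]
  have hclc : (Nat.card {x : G // IsConj g x} : ℂ) * (2 * (k : ℂ) - 1) = Nat.card G := by
    have h := card_conj_class_mul_card_centralizer g
    rw [hC] at h
    have h' := congrArg (fun n : ℕ => (n : ℂ)) h
    push_cast [Nat.cast_sub (show 1 ≤ 2 * k by omega)] at h'
    exact h'
  have hclc' : (Nat.card {x : G // IsConj g⁻¹ x} : ℂ) = Nat.card {x : G // IsConj g x} := by
    have h := card_conj_class_mul_card_centralizer g⁻¹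
    have e : Subgroup.centralizer ({g⁻¹} : Set G) = Subgroup.centralizer ({g} : Set G) := by
      ext x
      rw [mem_centralizer_singleton_iff, mem_centralizer_singleton_iff]
      exact Commute.inv_right_iff (a := x) (b := g)
    rw [e, ← card_conj_class_mul_card_centralizer g] at h
    exact_mod_cast Nat.eq_of_mul_eq_mul_right Nat.card_pos h
  have hG : (Nat.card G : ℂ) = 2 * (k : ℂ) * ((k : ℂ) - 1) * (2 * (k : ℂ) - 1) := by
    rw [M.card_G, ← hk]
    push_cast [Nat.cast_sub (show 1 ≤ k by omega), Nat.cast_sub (show 1 ≤ 2 * k by omega)]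
    ring
  have hG0 : (Nat.card G : ℂ) ≠ 0 := by exact_mod_cast (Nat.card_pos (α := G)).ne'
  have hq0 : 2 * (k : ℂ) - 1 ≠ 0 := by
    rw [sub_ne_zero]; exact_mod_cast (show 2 * k ≠ 1 by omega)
  set cl : ℂ := (Nat.card {x : G // IsConj g x} : ℂ) with hcldef
  -- the sum over the zeros
  have hsumR : ∀ χ ∈ irrFinset G,
      ∑ x ∈ (rest D.K).filter (fun x => E.psi x = 0), χ x = cl * (χ g + χ g⁻¹) := by
    intro χ hχ
    have hcχ := IsIrrCharacter.isClassFunction (mem_irrFinset.1 hχ)
    have hset : (rest D.K).filter (fun x => E.psi x = 0) =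
        (Finset.univ.filter fun x => IsConj g x) ∪ (Finset.univ.filter fun x => IsConj g⁻¹ x) := by
      ext x
      simp only [Finset.mem_union, Finset.mem_filter, Finset.mem_univ, true_and, mem_rest]
      constructor
      · exact fun h => hsplit x h.1 h.2
      · rintro (e | e) <;> obtain ⟨y, rfl⟩ := isConj_iff.1 e
        · rw [inConj_iff_of_eq, IsGeneralized.isClassFunction (signed_isGeneralized E.psi_s) g y]
          exact ⟨hg, h0⟩
        · rw [inConj_iff_of_eq, IsGeneralized.isClassFunction (signed_isGeneralized E.psi_s) g⁻¹ y]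
          exact ⟨hg', h0'⟩
    rw [hset, Finset.sum_union (Finset.disjoint_left.2 fun x h1 h2 =>
      hnc ((Finset.mem_filter.1 h1).2.trans (Finset.mem_filter.1 h2).2.symm))]
    rw [Finset.sum_congr rfl fun x hx =>
        (IsClassFunction.apply_eq_of_isConj hcχ (Finset.mem_filter.1 hx).2).symm,
      Finset.sum_congr rfl (s₁ := Finset.univ.filter fun x => IsConj g⁻¹ x) fun x hx =>
        (IsClassFunction.apply_eq_of_isConj hcχ (Finset.mem_filter.1 hx).2).symm,
      Finset.sum_const, Finset.sum_const, nsmul_eq_mul, nsmul_eq_mul, ← Fintype.card_subtype,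
      ← Fintype.card_subtype, ← Nat.card_eq_fintype_card, ← Nat.card_eq_fintype_card, hclc', ← hcldef]
    ring
  -- the weights
  set q : (G → ℂ) → ℂ := fun χ => χ g * conj (χ g) with hqdef
  have hqe : ∀ χ, q (-χ) = q χ := fun χ => by simp [hqdef]
  have hsum1 : ∑ χ ∈ irrFinset G, q χ = 2 * (k : ℂ) - 1 := by
    rw [hqdef, sum_irr_mul_conj, if_pos (IsConj.refl g), hC, Nat.cast_sub (show 1 ≤ 2 * k by omega)]
    push_cast; ring
  have hsum2 : ∑ χ ∈ irrFinset G, Cfsg.classInner (oneFun G) χ * q χ / χ 1 = 1 := by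
    rw [sum_signed signed_one q hqe]; simp [hqdef, oneFun]
  have hsum3 : ∑ χ ∈ irrFinset G, Cfsg.classInner E.psi χ * q χ / χ 1 = 0 := by
    rw [sum_signed E.psi_s q hqe]; simp [hqdef, h0]
  set X : ℂ := 1 + 1 / (2 * (k : ℂ) - 2) with hX
  set Y : ℂ := 1 + (k : ℂ) / ((k : ℂ) - 1) with hY
  have hk1 : (k : ℂ) - 1 ≠ 0 := by rw [sub_ne_zero]; exact_mod_cast (show k ≠ 1 by omega)
  have hk2 : 2 * (k : ℂ) - 2 ≠ 0 := by
    rw [show 2 * (k : ℂ) - 2 = 2 * ((k : ℂ) - 1) by ring]
    exact mul_ne_zero two_ne_zero hk1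
  have hlam : ∀ lam : D.K →* ℂˣ, ∑ χ ∈ irrFinset G, Cfsg.classInner (D.f lam) χ * q χ / χ 1 =
      X + (if lam = 1 then -X else 0) + (if lam = E.ε then Y - X else 0) := by
    intro lam
    by_cases h1 : lam = 1
    · subst h1
      rw [if_pos rfl, if_neg E.ε_ne.symm, add_zero, add_neg_cancel]
      refine Finset.sum_eq_zero fun χ _ => ?_
      rw [f, fTI_trivial, classInner_zero_left, zero_mul, zero_div]
    rw [if_neg h1, add_zero]
    have hq1 : q (oneFun G) = 1 := by simp [hqdef, oneFun]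
    have hqp : q E.psi = 0 := by simp [hqdef, h0]
    rcases E.cases_ne_one h1 with rfl | ha
    · rw [if_pos rfl, (E.sum_f_mul q hqe).2, hq1, hqp, hqdef]
      simp only
      rw [(M.norm_bc S hg h0).1, (M.norm_bc S hg h0).2]
      have e : E.b 1 = (k : ℂ) - 1 := by
        have h1 := M.degree
        push_cast at h1
        linear_combination (E.bc_one + E.b_eq_c M.three_le) / 2 - h1 / 2
      rw [← E.b_eq_c M.three_le, e, hY, ← hk]
      field_simp
      ring
    · rw [if_neg (E.nonreal_ne_eps ha), add_zero, (E.sum_f_mul q hqe).1 lam ha, hq1, hqp, hqdef]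
      simp only
      rw [E.phi_out ha hg, h0, E.phi_one ha, M.degree, hX, ← hk]
      push_cast
      rw [show -1 - (1 - 2 * (k : ℂ)) = 2 * (k : ℂ) - 2 by ring]
      simp only [sub_zero, map_neg, map_one, neg_mul_neg, one_mul, zero_div, add_zero]
  have hsumlam : ∑ lam : D.K →* ℂˣ, ∑ χ ∈ irrFinset G, Cfsg.classInner (D.f lam) χ * q χ / χ 1 =
      ((k : ℂ) - 2) * X + Y := by
    rw [Finset.sum_congr rfl fun lam _ => hlam lam, Finset.sum_add_distrib, Finset.sum_add_distrib,
      Finset.sum_const, Finset.card_univ, nsmul_eq_mul, Finset.sum_ite_eq', Finset.sum_ite_eq',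
      if_pos (Finset.mem_univ _), if_pos (Finset.mem_univ _), ← Nat.card_eq_fintype_card,
      card_dual D.dih, ← hk]
    ring
  have hmain : ∑ χ ∈ irrFinset G, q χ * (cl * (χ g + χ g⁻¹)) / χ 1 =
      (Nat.card G : ℂ) - (2 - 2 * (k : ℂ)) * (2 * (k : ℂ) - 1) -
        (Nat.card G : ℂ) / (k : ℂ) * (((k : ℂ) - 2) * X + Y) := by
    have h1 : ∀ χ ∈ irrFinset G, q χ * (cl * (χ g + χ g⁻¹)) / χ 1 =
        (Nat.card G : ℂ) * (Cfsg.classInner (oneFun G) χ * q χ / χ 1) +
          (Nat.card G : ℂ) * (Cfsg.classInner E.psi χ * q χ / χ 1) - (2 - 2 * (k : ℂ)) * q χ -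
          (Nat.card G : ℂ) / (k : ℂ) *
            ∑ lam : D.K →* ℂˣ, Cfsg.classInner (D.f lam) χ * q χ / χ 1 := by
      intro χ hχ
      have hne := IsIrrCharacter.apply_one_ne_zero (mem_irrFinset.1 hχ)
      rw [← hsumR χ hχ, M.sum_zero (mem_irrFinset.1 hχ), ← hk, ← Finset.sum_div, ← Finset.sum_mul]
      field_simp
    rw [Finset.sum_congr rfl h1, Finset.sum_sub_distrib, Finset.sum_sub_distrib, Finset.sum_add_distrib,
      ← Finset.mul_sum, ← Finset.mul_sum, ← Finset.mul_sum, ← Finset.mul_sum, hsum1, hsum2, hsum3,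
      Finset.sum_comm, hsumlam]
    ring
  have hfin : ((Nat.card {p : G × G // IsConj g p.1 ∧ IsConj g p.2 ∧ p.1 * p.2 = g} +
      Nat.card {p : G × G // IsConj g p.1 ∧ IsConj g⁻¹ p.2 ∧ p.1 * p.2 = g} : ℕ) : ℂ) =
      ((k - 2 : ℕ) : ℂ) := by
    rw [Nat.cast_add, card_class_products, card_class_products, hclc', ← hcldef, ← mul_add,
      ← Finset.sum_add_distrib]
    have h2 : ∀ χ ∈ irrFinset G, χ g * χ g * conj (χ g) / χ 1 + χ g * χ g⁻¹ * conj (χ g) / χ 1 =
        (cl)⁻¹ * (q χ * (cl * (χ g + χ g⁻¹)) / χ 1) := by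
      intro χ _
      have hcl0 : cl ≠ 0 := fun e => hG0 (by rw [← hclc, e, zero_mul])
      rw [hqdef]
      field_simp
    rw [Finset.sum_congr rfl h2, ← Finset.mul_sum, hmain]
    have hcl1 : cl = 2 * (k : ℂ) * ((k : ℂ) - 1) := by
      apply mul_right_cancel₀ hq0
      rw [hclc, hG]
    rw [hcl1, hG, hX, hY, Nat.cast_sub (show 2 ≤ k by omega)]
    have hk0 : (k : ℂ) ≠ 0 := by exact_mod_cast (show k ≠ 0 by omega)
    push_cast
    rw [show 2 * (k : ℂ) - 2 = 2 * ((k : ℂ) - 1) by ring]
    field_simp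
    ring
  exact_mod_cast hfin

end Data.Exc

end CfsgLib.Wall
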