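import Cfsg.Agent.Wall.Plus
import Cfsg.Agent.Frobenius.Fpf

/-!
The second torus when the common character has degree `1 - 2k`.
-/

set_option autoImplicit false
set_option linter.unusedSectionVars false
set_option linter.style.haveILetI false
set_option linter.deprecated false

namespace CfsgLib.Wall

open Subgroup CfsgLib.Char
open scoped ComplexConjugate

universe u

namespace Data.Exc

variable {G : Type u} [Group G] [Fintype G] {D : Data G} [Fintype D.K] [Fintype (D.K →* ℂˣ)]
  (E : D.Exc)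

/-- The hypotheses of the case of degree `1 - 2k`. -/
structure Minus (E : D.Exc) : Prop where
  three_le : 3 ≤ Nat.card D.K
  degree : E.psi 1 = ((1 - 2 * (Nat.card D.K : ℤ) : ℤ) : ℂ)
  card_eq : (Nat.card G : ℤ) =
    Nat.card D.K * (1 - 2 * (Nat.card D.K : ℤ)) * (1 - 2 * (Nat.card D.K : ℤ) + 1)

variable {E}

theorem Minus.four_le (M : Minus E) : 4 ≤ Nat.card D.K := by
  obtain ⟨r, hr⟩ := D.even_card_K
  have := M.three_le
  omega

theorem Minus.card_G (M : Minus E) :
    Nat.card G = 2 * Nat.card D.K * (Nat.card D.K - 1) * (2 * Nat.card D.K - 1) := by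
  have h4 := M.four_le
  have h : (Nat.card G : ℤ) =
      ((2 * Nat.card D.K * (Nat.card D.K - 1) * (2 * Nat.card D.K - 1) : ℕ) : ℤ) := by
    rw [M.card_eq]
    push_cast [Nat.cast_sub (show 1 ≤ Nat.card D.K by omega),
      Nat.cast_sub (show 1 ≤ 2 * Nat.card D.K by omega)]
    ring
  exact_mod_cast h

theorem Minus.psi_pairs (M : Minus E) {g : G} (hg : ¬ InConj D.K g) :
    (E.psi g = 0 ∧ D.pairs g = 0) ∨ (E.psi g = -1 ∧ D.pairs g = Nat.card D.K - 1) := by
  have h4 := M.four_le
  rcases E.pairs_zero M.three_le M.degree (Or.inr rfl) M.card_eq hg with ⟨h, hP⟩ | ⟨h, hP⟩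
  · refine Or.inl ⟨h, ?_⟩
    have : (4 * (Nat.card D.K : ℤ)) * D.pairs g = 0 := by rw [hP]; ring
    rcases mul_eq_zero.1 this with e | e
    · omega
    · exact_mod_cast e
  · refine Or.inr ⟨h, ?_⟩
    have hp : (D.pairs g : ℤ) = ((Nat.card D.K - 1 : ℕ) : ℤ) := by
      apply mul_left_cancel₀ (show (4 * (Nat.card D.K : ℤ)) ≠ 0 by omega)
      rw [hP]
      push_cast [Nat.cast_sub (show 1 ≤ Nat.card D.K by omega)]
      ring
    exact_mod_cast hp

open scoped Classical in
/-- The number of elements off the torus where the common character vanishes or does not. -/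
theorem Minus.counts (M : Minus E) :
    ((rest D.K).filter fun g => E.psi g = 0).card = 4 * Nat.card D.K * (Nat.card D.K - 1) ∧
      ((rest D.K).filter fun g => ¬ E.psi g = 0).card =
        (2 * Nat.card D.K - 1) * Nat.card D.K * (Nat.card D.K - 2) := by
  classical
  have h4 := M.four_le
  set k := Nat.card D.K with hk
  obtain ⟨h0, h1⟩ := E.card_zero M.three_le M.degree (Or.inr rfl) M.card_eq
  have hT := card_torus D.dih
  rw [M.card_G, ← hk] at hT
  have hT2 : (torus D.K).card = (k - 1) * (2 * k - 1) * (k - 1) := by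
    apply Nat.eq_of_mul_eq_mul_left (show 0 < 2 * k by omega)
    rw [hT]; ring
  refine ⟨?_, ?_⟩
  · have e : (((rest D.K).filter fun g => E.psi g = 0).card : ℤ) = ((4 * k * (k - 1) : ℕ) : ℤ) := by
      rw [h0]
      push_cast [Nat.cast_sub (show 1 ≤ k by omega)]
      rw [← hk]; ring
    exact_mod_cast e
  · have e : (((rest D.K).filter fun g => ¬ E.psi g = 0).card : ℤ) =
        (((2 * k - 1) * k * (k - 2) : ℕ) : ℤ) := by
      rw [h1, hT2]
      push_cast [Nat.cast_sub (show 1 ≤ k by omega), Nat.cast_sub (show 2 ≤ k by omega),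
        Nat.cast_sub (show 1 ≤ 2 * k by omega)]
      rw [← hk]; ring
    exact_mod_cast e

/-- The second torus. -/
structure Second (E : D.Exc) (A : Subgroup G) : Prop where
  card : Nat.card A = Nat.card D.K - 1
  centralizer : ∀ c ∈ A, c ≠ 1 → Subgroup.centralizer ({c} : Set G) = A
  out : ∀ c ∈ A, c ≠ 1 → ¬ InConj D.K c ∧ E.psi c = -1
  dih : Dih A D.t
  normalizer : Subgroup.normalizer (A : Set G) = A ⊔ zpowers D.t
  covers : ∀ g : G, ¬ InConj D.K g → E.psi g = -1 → InConj A g
  b_zero : ∀ g : G, ¬ InConj D.K g → E.psi g = -1 → E.b g = 0 ∧ E.c g = 0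

theorem mem_sup_t {A : Subgroup G} (htN : D.t ∈ Subgroup.normalizer (A : Set G)) {x : G}
    (hx : x ∈ A ⊔ zpowers D.t) : x ∈ A ∨ x * D.t ∈ A := by
  have hx' : x ∈ (↑(A ⊔ zpowers D.t) : Set G) := hx
  rw [coe_mul_of_right_le_normalizer_left A (zpowers D.t) (zpowers_le.2 htN)] at hx'
  obtain ⟨y, hy, z, hz, rfl⟩ := hx'
  obtain ⟨i, rfl⟩ := mem_zpowers_iff.1 hz
  rcases Int.even_or_odd i with ⟨j, rfl⟩ | ⟨j, rfl⟩
  · left
    rw [← two_mul, zpow_mul, zpow_two, D.t_sq, one_zpow]
    simpa using hy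
  · right
    rw [zpow_add_one, zpow_mul, zpow_two, D.t_sq, one_zpow, one_mul]
    show y * D.t * D.t ∈ A
    rw [mul_assoc, D.t_sq, mul_one]; exact hy

theorem Minus.exists_second (M : Minus E) : ∃ A : Subgroup G, Second E A := by
  classical
  have h4 := M.four_le
  obtain ⟨g₀, hg₀⟩ : ((rest D.K).filter fun g => ¬ E.psi g = 0).Nonempty := by
    rw [← Finset.card_pos, M.counts.2]
    exact Nat.mul_pos (Nat.mul_pos (by omega) (by omega)) (by omega)
  rw [Finset.mem_filter, mem_rest] at hg₀
  have hP0 : D.pairs g₀ ≠ 0 := by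
    rcases M.psi_pairs hg₀.1 with ⟨h, -⟩ | ⟨-, h⟩
    · exact absurd h hg₀.2
    · omega
  obtain ⟨v, hv⟩ := D.exists_inverter hP0
  obtain ⟨z, hz⟩ := D.exists_conj_inverted hg₀.1 hv
  set g := z * g₀ * z⁻¹ with hgdef
  have hg : ¬ InConj D.K g := fun h => hg₀.1 (inConj_iff_of_eq.1 h)
  have hgpsi : ¬ E.psi g = 0 := by
    rw [hgdef, IsGeneralized.isClassFunction (signed_isGeneralized E.psi_s) g₀ z]
    exact hg₀.2
  set A := Subgroup.centralizer ({g} : Set G) with hA
  have hinv : ∀ c ∈ A, D.t * c * D.t⁻¹ = c⁻¹ := (D.pairs_spec hg hz).1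
  have hcard : Nat.card A = Nat.card D.K - 1 := by
    rw [← (D.pairs_spec hg hz).2]
    rcases M.psi_pairs hg with ⟨h, -⟩ | ⟨-, h⟩
    · exact absurd h hgpsi
    · exact h
  have hTI : ∀ c ∈ A, c ≠ 1 → Subgroup.centralizer ({c} : Set G) = A := fun c hc hc1 =>
    D.centralizer_eq hg hz hc hc1
  have hout : ∀ c ∈ A, c ≠ 1 → ¬ InConj D.K c ∧ E.psi c = -1 := by
    intro c hc hc1
    have hco := D.centralizer_out hg hc hc1
    refine ⟨hco, ?_⟩
    rcases M.psi_pairs hco with ⟨-, h⟩ | ⟨h, -⟩
    · rw [(D.pairs_spec hco (hinv c hc)).2] at h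
      exact absurd h Nat.card_pos.ne'
    · exact h
  have htA : D.t ∉ A := fun h =>
    D.centralizer_out hg h D.t_ne_one ⟨1, by simpa using D.htK⟩
  -- the normalizer
  set Ω := Subgroup.normalizer (A : Set G) ⊓ Subgroup.centralizer ({D.t} : Set G) with hΩ
  have htΩ : D.t ∈ Ω := mem_inf.2 ⟨D.t_mem_normalizer hg hz, D.hKH D.htK⟩
  have hΩK : Ω ≤ D.K := D.normalizer_inf_H_le hg hz
  have hΩ2 : Ω = zpowers D.t := by
    let φ : Ω →* MulAut A := (A.normalizerMonoidHom).comp (Subgroup.inclusion inf_le_left)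
    have hfpf : CfsgLib.Frobenius.IsFpf φ := by
      intro e he a ha
      have ha' : (e : G) * (a : G) * (e : G)⁻¹ = a := congrArg Subtype.val ha
      by_contra ha1
      have ha1' : (a : G) ≠ 1 := fun h => ha1 (Subtype.ext h)
      have he1 : (e : G) ≠ 1 := fun h => he (Subtype.ext h)
      exact (hout a a.2 ha1').1 (D.inConj_of_centralizes ⟨1, by simpa using hΩK e.2⟩ he1
        (mul_inv_eq_iff_eq_mul.1 ha').symm)
    have h1 := hfpf.card_modEq_one
    rw [hcard] at h1
    have h2 : Nat.card Ω ∣ Nat.card D.K - 2 := by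
      have := (Nat.modEq_iff_dvd' (show 1 ≤ Nat.card D.K - 1 by omega)).1 h1.symm
      rwa [Nat.sub_sub] at this
    have h3 : Nat.card Ω ∣ 2 := by
      have := Nat.dvd_sub (card_dvd_of_le hΩK) h2
      rwa [show Nat.card D.K - (Nat.card D.K - 2) = 2 by omega] at this
    exact (eq_of_le_of_card_ge (zpowers_le.2 htΩ)
      (by rw [Nat.card_zpowers, D.ht]; exact Nat.le_of_dvd (by norm_num) h3)).symm
  have hN : Subgroup.normalizer (A : Set G) = A ⊔ zpowers D.t := by
    refine le_antisymm ?_ (sup_le le_normalizer (zpowers_le.2 (mem_inf.1 htΩ).1))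
    have := D.normalizer_le_sup hg hz
    rw [← hA, ← hΩ, hΩ2] at this
    exact this
  have hdih : Dih A D.t :=
    { comm := fun a ha b hb => D.centralizer_comm hg hz ha hb
      inverts := hinv
      not_mem := htA
      ti := fun a ha ha1 x hx => by
        have hxN := mem_normalizer_of_conj hTI ha ha1 hx
        rw [hN] at hxN
        exact mem_sup_t (mem_inf.1 htΩ).1 hxN }
  have hcov : ∀ x : G, ¬ InConj D.K x → E.psi x = -1 → InConj A x := by
    have hsub : torus A ⊆ (rest D.K).filter fun g => ¬ E.psi g = 0 := by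
      intro x hx
      obtain ⟨⟨y, hy⟩, hx1⟩ := mem_torus.1 hx
      obtain ⟨ho, hp⟩ := hout _ hy (fun e => hx1 (conj_eq_one_iff.1 e))
      rw [IsGeneralized.isClassFunction (signed_isGeneralized E.psi_s) x y] at hp
      rw [Finset.mem_filter, mem_rest, hp]
      exact ⟨fun h => ho (inConj_iff_of_eq.2 h), by norm_num⟩
    have heq : torus A = (rest D.K).filter fun g => ¬ E.psi g = 0 := by
      refine Finset.eq_of_subset_of_card_le hsub (le_of_eq ?_)
      have hT := card_torus hdih
      rw [hcard, M.card_G] at hT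
      rw [M.counts.2]
      apply Nat.eq_of_mul_eq_mul_left (show 0 < 2 * (Nat.card D.K - 1) by omega)
      rw [hT, show Nat.card D.K - 1 - 1 = Nat.card D.K - 2 by omega]
      ring
    intro x hx hxp
    have : x ∈ torus A := by
      rw [heq, Finset.mem_filter, mem_rest, hxp]
      exact ⟨hx, by norm_num⟩
    exact (mem_torus.1 this).1
  -- the characters `b` and `c` vanish on this torus
  haveI : Fintype (A →* ℂˣ) := dualFintype hdih
  haveI : Fintype A := Fintype.ofFinite A
  have hodd : ∀ μ : A →* ℂˣ, μ ≠ 1 → μ * μ ≠ 1 := by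
    intro μ hμ h2
    refine hμ (MonoidHom.ext fun a => ?_)
    have e2 : μ a * μ a = 1 := DFunLike.congr_fun h2 a
    have e3 : μ a ^ Nat.card A = 1 := by rw [← map_pow, pow_card_eq_one', map_one]
    obtain ⟨r, hr⟩ := D.even_card_K
    rw [hcard, show Nat.card D.K - 1 = 2 * (r - 1) + 1 by omega, pow_succ, pow_mul, sq, e2, one_pow,
      one_mul] at e3
    exact e3
  have hpsiA : ∀ a : A, a ≠ 1 → E.psi (a : G) = -1 := fun a ha =>
    (hout a a.2 fun h => ha (Subtype.ext h)).2
  have hbc : ∀ a : A, a ≠ 1 → E.b (a : G) + E.c (a : G) = 0 := fun a ha => by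
    rw [E.bc_out (hout a a.2 fun h => ha (Subtype.ext h)).1, hpsiA a ha]; ring
  have hbg := signed_isGeneralized E.b_s
  have hcg := signed_isGeneralized E.c_s
  have hψg := signed_isGeneralized E.psi_s
  have hint : ∀ μ : A →* ℂˣ, Cfsg.classInner (fTI A μ) E.b = ((0 : ℤ) : ℂ) := by
    intro μ
    rw [Int.cast_zero]
    by_cases hμ : μ = 1
    · rw [hμ, fTI_trivial, classInner_zero_left]
    have hf1 : Cfsg.classInner (fTI A μ) (oneFun G) = 1 := inner_fTI_one μ hμ
    have h1f : Cfsg.classInner (oneFun G) (fTI A μ) = 1 := classInner_oneFun_fTI μ hμ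
    have hff : Cfsg.classInner (fTI A μ) (fTI A μ) = 3 := by
      rw [inner_fTI_fTI hdih μ μ hμ hμ, if_pos rfl, if_neg (hodd μ hμ)]; norm_num
    have hfp : Cfsg.classInner (fTI A μ) E.psi = -1 := by
      rw [fTI, inner_indFun _ (IsGeneralized.isClassFunction hψg)]
      have h1 : ∀ a : A, (1 - (μ a : ℂ)) * conj (E.psi a) = (μ a : ℂ) - 1 := by
        intro a
        by_cases ha : a = 1
        · subst ha; simp
        · rw [hpsiA a ha]; simp
      rw [Finset.sum_congr rfl fun a _ => h1 a, Finset.sum_sub_distrib, sum_hom, if_neg hμ,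
        Finset.sum_const, Finset.card_univ, nsmul_eq_mul, mul_one, zero_sub,
        ← Nat.card_eq_fintype_card, mul_neg,
        inv_mul_cancel₀ (by exact_mod_cast (Nat.card_pos (α := A)).ne')]
    have hfbc : Cfsg.classInner (fTI A μ) E.b + Cfsg.classInner (fTI A μ) E.c = 0 := by
      rw [← classInner_add_right, fTI, inner_indFun _
        (IsGeneralized.isClassFunction (IsGeneralized.add hbg hcg))]
      refine mul_eq_zero_of_right _ (Finset.sum_eq_zero fun a _ => ?_)
      by_cases ha : a = 1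
      · subst ha; simp
      · rw [Pi.add_apply, hbc a ha, map_zero, mul_zero]
    have hpf : Cfsg.classInner E.psi (fTI A μ) = -1 := by
      rw [classInner_symm hψg (fTI_isGeneralized μ), hfp]
    set Mc := fTI A μ - oneFun G + E.psi with hMc
    have hMg : Cfsg.IsGeneralizedCharacter G Mc :=
      IsGeneralized.add (IsGeneralized.sub (fTI_isGeneralized μ)
        (signed_isGeneralized signed_one)) hψg
    have hMs : IsSignedIrr Mc := by
      refine exists_single hMg ?_
      simp only [hMc, classInner_add_left, classInner_add_right, classInner_sub_left,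
        classInner_sub_right, hff, hf1, h1f, hfp, hpf, IsSignedIrr.classInner_self E.psi_s,
        IsSignedIrr.classInner_self (signed_one (G := G)), E.one_psi,
        inner_symm signed_one E.psi_s E.one_psi]
      norm_num
    have e1 : Cfsg.classInner Mc E.b = Cfsg.classInner (fTI A μ) E.b := by
      rw [hMc, classInner_add_left, classInner_sub_left, E.one_b, E.psi_b]; ring
    have e2 : Cfsg.classInner Mc E.c = Cfsg.classInner (fTI A μ) E.c := by
      rw [hMc, classInner_add_left, classInner_sub_left, E.one_c, E.psi_c]; ring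
    rw [← e1, ← e2] at hfbc
    rw [← e1]
    rcases signed_inner_cases hMs E.b_s with h | ⟨h, hbe⟩ | ⟨h, hbe⟩
    · exact h
    all_goals
      have h0 := E.b_c
      rw [hbe] at h0
      try simp only [classInner_neg_left, neg_eq_zero] at h0
      rw [h, h0] at hfbc
      norm_num at hfbc
  have hbz : ∀ a : A, a ≠ 1 → E.b (a : G) = 0 := fun a ha => by
    rw [apply_of_int hdih (IsGeneralized.isClassFunction hbg) hint a ha]
    simp
  refine ⟨A, hcard, hTI, hout, hdih, hN, hcov, fun x hx hxp => ?_⟩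
  obtain ⟨y, hy⟩ := hcov x hx hxp
  have hne : (⟨_, hy⟩ : A) ≠ 1 := fun e =>
    ne_one_of_not_inConj hx (conj_eq_one_iff.1 (congrArg Subtype.val e))
  have eb : E.b (y * x * y⁻¹) = 0 := hbz ⟨_, hy⟩ hne
  have ec : E.c (y * x * y⁻¹) = 0 := by
    have := hbc ⟨_, hy⟩ hne
    simp only at this
    rwa [eb, zero_add] at this
  exact ⟨by rw [← IsGeneralized.isClassFunction hbg x y, eb],
    by rw [← IsGeneralized.isClassFunction hcg x y, ec]⟩

end Data.Exc

end CfsgLib.Wall
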