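import Cfsg.Agent.Wall.MinusTorus
import Cfsg.Agent.Frobenius.Basic

/-!
The elements where the common character of degree `1 - 2k` vanishes.
-/

set_option autoImplicit false
set_option linter.unusedSectionVars false
set_option linter.style.haveILetI false
set_option linter.deprecated false

namespace CfsgLib.Wall

open Subgroup CfsgLib.Char
open scoped ComplexConjugate

universe u

/-- A prime order element has a conjugate in a subgroup of index prime to its order. -/
theorem inConj_of_not_dvd_index {G : Type u} [Group G] [Finite G] {A : Subgroup G} {r : ℕ}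
    (hr : r.Prime) (hA : ¬ r ∣ A.index) {c : G} (hc : orderOf c = r) : InConj A c := by
  haveI : Fact r.Prime := ⟨hr⟩
  obtain ⟨P⟩ : Nonempty (Sylow r A) := Sylow.nonempty
  set P' : Subgroup G := (P : Subgroup A).map A.subtype with hP'
  have hidx : ¬ r ∣ P'.index := by
    rw [hP', Subgroup.index_map_subtype]
    intro h
    rcases hr.dvd_mul.1 h with h | h
    · exact P.not_dvd_index h
    · exact hA h
  have hPp : IsPGroup r P' := P.2.map _
  let S : Sylow r G := hPp.toSylow hidx
  obtain ⟨T, hT⟩ : ∃ T : Sylow r G, zpowers c ≤ T :=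
    IsPGroup.exists_le_sylow (IsPGroup.iff_card.2 ⟨1, by rw [Nat.card_zpowers, hc, pow_one]⟩)
  obtain ⟨x, hx⟩ := MulAction.exists_smul_eq G T S
  refine ⟨x, ?_⟩
  have h1 : x * c * x⁻¹ ∈ ((x • T : Sylow r G) : Subgroup G) :=
    ⟨c, hT (mem_zpowers c), by simp [MulAut.conj_apply]⟩
  rw [hx] at h1
  obtain ⟨y, -, hy⟩ := (show x * c * x⁻¹ ∈ P' from h1)
  exact hy ▸ y.2

theorem card_filter_isConj {G : Type u} [Group G] [Fintype G] (g : G)
    [DecidablePred fun x : G => IsConj g x] :
    (Finset.univ.filter fun x => IsConj g x).card * Nat.card (centralizer ({g} : Set G)) =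
      Nat.card G := by
  rw [← card_conj_class_mul_card_centralizer g, Nat.card_eq_fintype_card (α := {x : G // IsConj g x}),
    Fintype.card_subtype]

namespace Data.Exc

variable {G : Type u} [Group G] [Fintype G] {D : Data G} [Fintype D.K] [Fintype (D.K →* ℂˣ)]
  {E : D.Exc} {A : Subgroup G}

theorem Minus.zero_facts (M : Minus E) (S : Second E A) {g : G} (hg : ¬ InConj D.K g)
    (h0 : E.psi g = 0) :
    ¬ IsConj g g⁻¹ ∧ (∀ c ∈ Subgroup.centralizer ({g} : Set G), c ≠ 1 →
        ¬ InConj D.K c ∧ E.psi c = 0) ∧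
      Nat.card (Subgroup.centralizer ({g} : Set G)) = 2 * Nat.card D.K - 1 ∧
      ∀ x : G, ¬ InConj D.K x → E.psi x = 0 → IsConj g x ∨ IsConj g⁻¹ x := by
  classical
  have h4 := M.four_le
  set k := Nat.card D.K with hk
  set C := Subgroup.centralizer ({g} : Set G) with hC
  have hP : D.pairs g = 0 := by
    rcases M.psi_pairs hg with ⟨-, h⟩ | ⟨h, -⟩
    · exact h
    · rw [h0] at h; norm_num at h
  have hnc : ¬ IsConj g g⁻¹ := fun h => by
    obtain ⟨x, hx⟩ := isConj_iff.1 h
    have := (D.pairs_spec hg hx).2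
    rw [hP] at this
    exact Nat.card_pos.ne' this.symm
  have hcC : ∀ c ∈ C, c ≠ 1 → ¬ InConj D.K c ∧ E.psi c = 0 := by
    intro c hc hc1
    have hco := D.centralizer_out hg hc hc1
    refine ⟨hco, ?_⟩
    rcases M.psi_pairs hco with ⟨h, -⟩ | ⟨-, h⟩
    · exact h
    · exfalso
      obtain ⟨v, hv⟩ := D.exists_inverter (show D.pairs c ≠ 0 by omega)
      have hgc : g ∈ Subgroup.centralizer ({c} : Set G) :=
        mem_centralizer_singleton_iff.2 (mem_centralizer_singleton_iff.1 hc).symm
      exact hnc (isConj_iff.2 ⟨v, (D.pairs_spec hco hv).1 g hgc⟩)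
  have hcop : Nat.Coprime (Nat.card C) (2 * k * (k - 1)) := by
    refine Nat.coprime_of_dvd fun r hr h1 h2 => ?_
    haveI : Fact r.Prime := ⟨hr⟩
    obtain ⟨⟨c, hc⟩, hcr⟩ := exists_prime_orderOf_dvd_card' (G := C) r h1
    rw [Subgroup.orderOf_mk] at hcr
    have hc1 : c ≠ 1 := fun e => hr.ne_one (by rw [← hcr, e, orderOf_one])
    obtain ⟨hco, hc0⟩ := hcC c hc hc1
    have hr2 : r ≠ 2 := by
      rintro rfl
      exact hco (D.invol_inConj (by rw [← sq, ← hcr, pow_orderOf_eq_one]) hc1)
    have hnot2 : ¬ r ∣ 2 := fun h => hr2 ((Nat.prime_dvd_prime_iff_eq hr Nat.prime_two).1 h)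
    rcases hr.dvd_mul.1 h2 with h2 | h2
    · have hrk : r ∣ k := (hr.dvd_mul.1 h2).resolve_left hnot2
      refine hco (inConj_of_not_dvd_index hr (fun h => ?_) hcr)
      have hidx : D.K.index = 2 * (k - 1) * (2 * k - 1) := by
        apply Nat.eq_of_mul_eq_mul_left (show 0 < k by omega)
        rw [hk, card_mul_index, M.card_G]; ring
      rw [hidx] at h
      rcases hr.dvd_mul.1 h with h | h
      · rcases hr.dvd_mul.1 h with h | h
        · exact hnot2 h
        · have := Nat.dvd_sub hrk h
          rw [show k - (k - 1) = 1 by omega] at this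
          exact hr.ne_one (Nat.dvd_one.1 this)
      · have := Nat.dvd_sub (hrk.mul_left 2) h
        rw [show 2 * k - (2 * k - 1) = 1 by omega] at this
        exact hr.ne_one (Nat.dvd_one.1 this)
    · have hA : InConj A c := by
        refine inConj_of_not_dvd_index hr (fun h => ?_) hcr
        have hidx : A.index = 2 * k * (2 * k - 1) := by
          apply Nat.eq_of_mul_eq_mul_left (show 0 < Nat.card A from Nat.card_pos)
          rw [card_mul_index, S.card, M.card_G]; ring
        rw [hidx] at h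
        rcases hr.dvd_mul.1 h with h | h
        · have := Nat.dvd_sub ((hr.dvd_mul.1 h).resolve_left hnot2) h2
          rw [show k - (k - 1) = 1 by omega] at this
          exact hr.ne_one (Nat.dvd_one.1 this)
        · have := Nat.dvd_sub h (h2.mul_left 2)
          rw [show 2 * k - 1 - 2 * (k - 1) = 1 by omega] at this
          exact hr.ne_one (Nat.dvd_one.1 this)
      obtain ⟨x, hx⟩ := hA
      obtain ⟨-, hp⟩ := S.out _ hx (fun e => hc1 (conj_eq_one_iff.1 e))
      rw [IsGeneralized.isClassFunction (signed_isGeneralized E.psi_s) c x, hc0] at hp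
      norm_num at hp
  have hdvd : Nat.card C ∣ 2 * k - 1 := by
    refine hcop.dvd_of_dvd_mul_left ?_
    rw [← M.card_G]
    exact card_subgroup_dvd_card C
  -- the two classes
  set R0 := (rest D.K).filter fun x => E.psi x = 0 with hR0
  set P := Finset.univ.filter fun x => IsConj g x with hPdef
  set N := Finset.univ.filter fun x => IsConj g⁻¹ x with hNdef
  have hdisj : Disjoint P N := Finset.disjoint_left.2 fun x h1 h2 =>
    hnc ((Finset.mem_filter.1 h1).2.trans (Finset.mem_filter.1 h2).2.symm)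
  have hpsig' : E.psi g⁻¹ = 0 := by
    rw [IsGeneralized.apply_inv (signed_isGeneralized E.psi_s), h0, map_zero]
  have hsub : P ∪ N ⊆ R0 := by
    intro x hx
    rw [hR0, Finset.mem_filter, mem_rest]
    rw [Finset.mem_union, hPdef, hNdef, Finset.mem_filter, Finset.mem_filter] at hx
    have hg' : ¬ InConj D.K g⁻¹ := fun ⟨y, hy⟩ => hg ⟨y, by
      have := inv_mem hy
      rwa [mul_inv_rev, mul_inv_rev, inv_inv, inv_inv, ← mul_assoc] at this⟩
    rcases hx with ⟨-, hx⟩ | ⟨-, hx⟩ <;> obtain ⟨y, rfl⟩ := isConj_iff.1 hx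
    · rw [inConj_iff_of_eq, IsGeneralized.isClassFunction (signed_isGeneralized E.psi_s) g y]
      exact ⟨hg, h0⟩
    · rw [inConj_iff_of_eq, IsGeneralized.isClassFunction (signed_isGeneralized E.psi_s) g⁻¹ y]
      exact ⟨hg', hpsig'⟩
  have hCinv : Subgroup.centralizer ({g⁻¹} : Set G) = C := by
    ext x
    rw [hC, mem_centralizer_singleton_iff, mem_centralizer_singleton_iff]
    exact Commute.inv_right_iff (a := x) (b := g)
  have hPc : P.card * Nat.card C = Nat.card G := card_filter_isConj g
  have hNc : N.card * Nat.card C = Nat.card G := by rw [← hCinv]; exact card_filter_isConj g⁻¹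
  have hle : P.card + N.card ≤ 4 * k * (k - 1) := by
    rw [← Finset.card_union_of_disjoint hdisj, ← (M.counts).1]
    exact Finset.card_le_card hsub
  have hq : Nat.card C = 2 * k - 1 := by
    refine le_antisymm (Nat.le_of_dvd (by omega) hdvd) ?_
    have h2G : 2 * Nat.card G ≤ 4 * k * (k - 1) * Nat.card C := by
      calc 2 * Nat.card G = (P.card + N.card) * Nat.card C := by rw [add_mul, hPc, hNc, two_mul]
        _ ≤ _ := Nat.mul_le_mul_right _ hle
    rw [M.card_G, ← hk, show 2 * (2 * k * (k - 1) * (2 * k - 1)) = 4 * k * (k - 1) * (2 * k - 1) by ring]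
      at h2G
    exact Nat.le_of_mul_le_mul_left h2G (Nat.mul_pos (by omega) (by omega))
  refine ⟨hnc, hcC, hq, fun x hx hx0 => ?_⟩
  have heq : P ∪ N = R0 := by
    refine Finset.eq_of_subset_of_card_le hsub (le_of_eq ?_)
    rw [Finset.card_union_of_disjoint hdisj, (M.counts).1, ← hk]
    apply Nat.eq_of_mul_eq_mul_right (show 0 < Nat.card C from Nat.card_pos)
    rw [add_mul, hPc, hNc, M.card_G, ← hk, hq]
    ring
  have hmem : x ∈ P ∪ N := by rw [heq, hR0, Finset.mem_filter, mem_rest]; exact ⟨hx, hx0⟩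
  rw [Finset.mem_union, hPdef, hNdef, Finset.mem_filter, Finset.mem_filter] at hmem
  rcases hmem with ⟨-, h⟩ | ⟨-, h⟩
  · exact Or.inl h
  · exact Or.inr h

/-- The squared absolute value of `b` and `c` at these elements. -/
theorem Minus.norm_bc (M : Minus E) (S : Second E A) {g : G} (hg : ¬ InConj D.K g)
    (h0 : E.psi g = 0) :
    E.b g * conj (E.b g) = (Nat.card D.K : ℂ) / 2 ∧ E.c g * conj (E.c g) = (Nat.card D.K : ℂ) / 2 := by
  classical
  have h4 := M.four_le
  obtain ⟨-, -, -, hsplit⟩ := M.zero_facts S hg h0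
  set k := Nat.card D.K with hk
  have hdeg : E.b 1 = ((k - 1 : ℕ) : ℂ) ∧ E.c 1 = ((k - 1 : ℕ) : ℂ) := by
    have e : E.b 1 = ((k - 1 : ℕ) : ℂ) := by
      have h1 := M.degree
      rw [← hk] at h1
      push_cast [Nat.cast_sub (show 1 ≤ k by omega)] at h1 ⊢
      linear_combination (E.bc_one + E.b_eq_c M.three_le) / 2 - h1 / 2
    exact ⟨e, by rw [← E.b_eq_c M.three_le, e]⟩
  have key : ∀ B : G → ℂ, IsSignedIrr B → B 1 = ((k - 1 : ℕ) : ℂ) →
      (∀ x : D.K, x ≠ 1 → B (x : G) = -(E.ε x : ℂ)) →
      (∀ x : G, ¬ InConj D.K x → E.psi x = -1 → B x = 0) →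
      B g * conj (B g) = (k : ℂ) / 2 := by
    intro B hB hB1 hBK hBR
    have hBg := signed_isGeneralized hB
    set h : G → ℂ := fun x => B x * conj (B x) with hh
    have hcl : Cfsg.IsClassFunction G h := fun x y => by
      rw [hh]; simp only; rw [IsGeneralized.isClassFunction hBg x y]
    have hnorm : ∑ x : G, h x = (Nat.card G : ℂ) := signed_sum_sq hB
    rw [sum_split (A := D.K)] at hnorm
    have htor := sum_torus D.dih hcl
    have hK : ∑ a : D.K, h a - h 1 = (k : ℂ) - 1 := by
      have h1 : ∀ a : D.K, h a = 1 + (if a = 1 then h 1 - 1 else 0) := by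
        intro a
        by_cases ha : a = 1
        · subst ha; simp
        · rw [if_neg ha, hh]
          simp only
          rw [hBK a ha, map_neg, neg_mul_neg, conj_hom_apply, ← Units.val_mul, ← map_mul,
            mul_inv_cancel, map_one, Units.val_one, add_zero]
      rw [Finset.sum_congr rfl fun a _ => h1 a, Finset.sum_add_distrib, Finset.sum_ite_eq',
        if_pos (Finset.mem_univ _), Finset.sum_const, Finset.card_univ, nsmul_eq_mul,
        ← Nat.card_eq_fintype_card, ← hk]
      ring
    rw [hK, ← hk] at htor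
    have hrest : ∑ x ∈ rest D.K, h x = (4 * (k : ℂ) * ((k : ℂ) - 1)) * h g := by
      rw [← Finset.sum_filter_add_sum_filter_not (rest D.K) (fun x => E.psi x = 0)]
      rw [Finset.sum_eq_zero (s := (rest D.K).filter fun x => ¬ E.psi x = 0) fun x hx => by
        rw [Finset.mem_filter, mem_rest] at hx
        have := (M.psi_pairs hx.1).resolve_left fun h => hx.2 h.1
        rw [hh]; simp only; rw [hBR x hx.1 this.1, zero_mul]]
      rw [Finset.sum_congr rfl fun x hx => ?_, Finset.sum_const, nsmul_eq_mul, (M.counts).1, ← hk,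
        add_zero]
      · push_cast [Nat.cast_sub (show 1 ≤ k by omega)]
        rfl
      · rw [Finset.mem_filter, mem_rest] at hx
        rcases hsplit x hx.1 hx.2 with e | e
        · exact (IsClassFunction.apply_eq_of_isConj hcl e).symm
        · rw [← IsClassFunction.apply_eq_of_isConj hcl e, hh]
          simp only
          rw [IsGeneralized.apply_inv hBg, Complex.conj_conj, mul_comm]
    rw [hrest] at hnorm
    have hh1 : h 1 = ((k : ℂ) - 1) ^ 2 := by
      rw [hh]; simp only; rw [hB1, Complex.conj_natCast, Nat.cast_sub (show 1 ≤ k by omega)]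
      push_cast; ring
    rw [hh1] at hnorm
    have hG : (Nat.card G : ℂ) = 2 * (k : ℂ) * ((k : ℂ) - 1) * (2 * (k : ℂ) - 1) := by
      rw [M.card_G, ← hk]
      push_cast [Nat.cast_sub (show 1 ≤ k by omega), Nat.cast_sub (show 1 ≤ 2 * k by omega)]
      ring
    rw [hG] at hnorm htor
    have hk0 : (k : ℂ) ≠ 0 := by exact_mod_cast (show k ≠ 0 by omega)
    have hk1 : (k : ℂ) - 1 ≠ 0 := by
      rw [sub_ne_zero]; exact_mod_cast (show k ≠ 1 by omega)
    show h g = _
    apply mul_left_cancel₀ (mul_ne_zero (mul_ne_zero (two_ne_zero (α := ℂ)) hk0)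
      (mul_ne_zero (mul_ne_zero (show (4 : ℂ) ≠ 0 by norm_num) hk0) hk1))
    linear_combination (2 * (k : ℂ)) * hnorm - htor
  refine ⟨key E.b E.b_s hdeg.1 (fun x hx => E.b_apply hx) fun x hx hp => (S.b_zero x hx hp).1,
    key E.c E.c_s hdeg.2 (fun x hx => E.c_apply hx) fun x hx hp => (S.b_zero x hx hp).2⟩

end Data.Exc

end CfsgLib.Wall
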