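import Cfsg.Agent.Wall.Degrees

/-!
Values and degrees of the exceptional characters, and the order of the group.
-/

set_option autoImplicit false
set_option linter.unusedSectionVars false
set_option linter.style.haveILetI false
set_option linter.deprecated false

namespace CfsgLib.Wall

open CfsgLib.Char
open scoped ComplexConjugate

universe u

theorem inner_symm {G : Type u} [Group G] [Fintype G] {A B : G → ℂ} (hA : IsSignedIrr A)
    (hB : IsSignedIrr B) (h : Cfsg.classInner A B = 0) : Cfsg.classInner B A = 0 := by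
  rw [classInner_symm (signed_isGeneralized hB) (signed_isGeneralized hA), h]

namespace Data.Exc

variable {G : Type u} [Group G] [Fintype G] {D : Data G} [Fintype D.K] [Fintype (D.K →* ℂˣ)]
  (E : D.Exc)

theorem eps_inv : E.ε⁻¹ = E.ε := dual_inv_eq E.ε_sq

theorem eps_apply_inv (x : D.K) : (E.ε x⁻¹ : ℂ) = E.ε x := by
  have h : E.ε x⁻¹ = E.ε x := by
    rw [map_inv, ← MonoidHom.inv_apply, E.eps_inv]
  rw [h]

theorem nonreal_ne_eps {a : D.K →* ℂˣ} (ha : a * a ≠ 1) : a ≠ E.ε := fun e => ha (e.symm ▸ E.ε_sq)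

theorem mul_eps_ne {a : D.K →* ℂˣ} (ha : a * a ≠ 1) : a * E.ε ≠ 1 := fun e =>
  E.nonreal_ne_eps ha ((dual_eq_inv e).trans E.eps_inv)

theorem cases_ne_one {lam : D.K →* ℂˣ} (hl : lam ≠ 1) : lam = E.ε ∨ lam * lam ≠ 1 := by
  by_cases h : lam * lam = 1
  · exact Or.inl ((E.real lam h).resolve_left hl)
  · exact Or.inr h

theorem inner_f (lam : D.K →* ℂˣ) (hl : lam * lam ≠ 1) (S : G → ℂ) :
    Cfsg.classInner (D.f lam) S =
      Cfsg.classInner (oneFun G) S + Cfsg.classInner E.psi S + Cfsg.classInner (E.phi lam) S := by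
  rw [E.f_nonreal lam hl, classInner_add_left, classInner_add_left]

theorem inner_f_eps (S : G → ℂ) :
    Cfsg.classInner (D.f E.ε) S =
      Cfsg.classInner (oneFun G) S + Cfsg.classInner E.psi S + Cfsg.classInner E.b S +
        Cfsg.classInner E.c S := by
  rw [E.f_eps, classInner_add_left, classInner_add_left, classInner_add_left]

theorem f_psi {lam : D.K →* ℂˣ} (hl : lam ≠ 1) : Cfsg.classInner (D.f lam) E.psi = 1 := by
  rcases E.cases_ne_one hl with rfl | h
  · rw [E.inner_f_eps, E.one_psi, IsSignedIrr.classInner_self E.psi_s,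
      inner_symm E.psi_s E.b_s E.psi_b, inner_symm E.psi_s E.c_s E.psi_c]
    norm_num
  · rw [E.inner_f lam h, E.one_psi, IsSignedIrr.classInner_self E.psi_s,
      inner_symm E.psi_s (E.phi_s lam h) (E.psi_phi lam h)]
    norm_num

theorem phi_phi {a b : D.K →* ℂˣ} (ha : a * a ≠ 1) (hb : b * b ≠ 1) (h1 : a ≠ b) (h2 : a * b ≠ 1) :
    Cfsg.classInner (E.phi a) (E.phi b) = 0 := by
  classical
  have h := inner_fTI_fTI D.dih a b (dual_sq_ne ha) (dual_sq_ne hb)
  rw [if_neg h1, if_neg h2] at h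
  change Cfsg.classInner (D.f a) (D.f b) = _ at h
  rw [E.inner_f a ha, E.f_nonreal b hb] at h
  simp only [classInner_add_right, E.one_psi, E.one_phi b hb, E.psi_phi b hb,
    inner_symm signed_one E.psi_s E.one_psi, inner_symm signed_one (E.phi_s a ha) (E.one_phi a ha),
    inner_symm E.psi_s (E.phi_s a ha) (E.psi_phi a ha), IsSignedIrr.classInner_self E.psi_s,
    IsSignedIrr.classInner_self (signed_one (G := G))] at h
  linear_combination h

theorem phi_bc {a : D.K →* ℂˣ} (ha : a * a ≠ 1) :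
    Cfsg.classInner (E.phi a) E.b = 0 ∧ Cfsg.classInner (E.phi a) E.c = 0 := by
  classical
  have h := inner_fTI_fTI D.dih a E.ε (dual_sq_ne ha) E.ε_ne
  rw [if_neg (E.nonreal_ne_eps ha), if_neg (E.mul_eps_ne ha)] at h
  change Cfsg.classInner (D.f a) (D.f E.ε) = _ at h
  rw [E.inner_f a ha, E.f_eps] at h
  simp only [classInner_add_right, E.one_psi, E.one_b, E.one_c, E.psi_b, E.psi_c,
    inner_symm signed_one E.psi_s E.one_psi, inner_symm signed_one (E.phi_s a ha) (E.one_phi a ha),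
    inner_symm E.psi_s (E.phi_s a ha) (E.psi_phi a ha), IsSignedIrr.classInner_self E.psi_s,
    IsSignedIrr.classInner_self (signed_one (G := G))] at h
  have hsum : Cfsg.classInner (E.b + E.c) (E.phi a) = 0 := by
    rw [classInner_add_left, classInner_symm (signed_isGeneralized E.b_s) (signed_isGeneralized (E.phi_s a ha)),
      classInner_symm (signed_isGeneralized E.c_s) (signed_isGeneralized (E.phi_s a ha))]
    linear_combination h
  obtain ⟨hb, hc⟩ := pair_orth E.b_s E.c_s (E.phi_s a ha) E.b_c hsum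
  exact ⟨inner_symm E.b_s (E.phi_s a ha) hb, inner_symm E.c_s (E.phi_s a ha) hc⟩

theorem f_b (lam : D.K →* ℂˣ) [Decidable (lam = E.ε)] :
    Cfsg.classInner (D.f lam) E.b = (((if lam = E.ε then 1 else 0) : ℤ) : ℂ) := by
  by_cases h : lam = E.ε
  · subst h
    rw [if_pos rfl, E.inner_f_eps, E.one_b, E.psi_b, IsSignedIrr.classInner_self E.b_s,
      inner_symm E.b_s E.c_s E.b_c]
    norm_num
  · rw [if_neg h]
    by_cases h1 : lam = 1
    · subst h1; rw [f, fTI_trivial, classInner_zero_left]; norm_num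
    · have hl := (E.cases_ne_one h1).resolve_left h
      rw [E.inner_f lam hl, E.one_b, E.psi_b, (E.phi_bc hl).1]
      norm_num

theorem psi_apply {x : D.K} (hx : x ≠ 1) : E.psi (x : G) = 1 := by
  classical
  have hc : ∀ lam, Cfsg.classInner (D.f lam) E.psi = (((if lam = 1 then 0 else 1) : ℤ) : ℂ) := by
    intro lam
    by_cases h : lam = 1
    · subst h; rw [f, fTI_trivial, classInner_zero_left, if_pos rfl]; norm_num
    · rw [if_neg h, E.f_psi h]; norm_num
  rw [apply_of_int D.dih (IsGeneralized.isClassFunction (signed_isGeneralized E.psi_s)) hc x hx]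
  have hsplit : ∀ lam : D.K →* ℂˣ, (lam x : ℂ) * (((if lam = 1 then 0 else 1) : ℤ) : ℂ) =
      (lam x : ℂ) - (if lam = 1 then 1 else 0) := by
    intro lam
    split_ifs with h
    · subst h; simp
    · simp
  rw [Finset.sum_congr rfl fun lam _ => hsplit lam, Finset.sum_sub_distrib, sum_dual D.dih, if_neg hx,
    Finset.sum_ite_eq' Finset.univ (1 : D.K →* ℂˣ), if_pos (Finset.mem_univ _)]
  norm_num

theorem b_apply {x : D.K} (hx : x ≠ 1) : E.b (x : G) = -(E.ε x : ℂ) := by
  classical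
  rw [apply_of_int D.dih (IsGeneralized.isClassFunction (signed_isGeneralized E.b_s)) (fun lam => E.f_b lam) x hx]
  have hsplit : ∀ lam : D.K →* ℂˣ, (lam x : ℂ) * (((if lam = E.ε then 1 else 0) : ℤ) : ℂ) =
      (if lam = E.ε then (E.ε x : ℂ) else 0) := by
    intro lam
    split_ifs with h
    · subst h; simp
    · simp
  rw [Finset.sum_congr rfl fun lam _ => hsplit lam,
    Finset.sum_ite_eq' Finset.univ E.ε, if_pos (Finset.mem_univ _)]

theorem c_apply {x : D.K} (hx : x ≠ 1) : E.c (x : G) = -(E.ε x : ℂ) := by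
  have h := congrFun E.f_eps (x : G)
  rw [f, fTI_apply_mem D.dih E.ε x hx, E.eps_apply_inv] at h
  simp only [Pi.add_apply, oneFun, E.psi_apply hx, E.b_apply hx] at h
  linear_combination -h

theorem phi_apply {a : D.K →* ℂˣ} (ha : a * a ≠ 1) {x : D.K} (hx : x ≠ 1) :
    E.phi a (x : G) = -(a x : ℂ) - a x⁻¹ := by
  have h := congrFun (E.f_nonreal a ha) (x : G)
  rw [f, fTI_apply_mem D.dih a x hx] at h
  simp only [Pi.add_apply, oneFun, E.psi_apply hx] at h
  linear_combination -h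

theorem phi_one {a : D.K →* ℂˣ} (ha : a * a ≠ 1) : E.phi a 1 = -1 - E.psi 1 := by
  have h := congrFun (E.f_nonreal a ha) 1
  rw [f, fTI_one] at h
  simp only [Pi.add_apply, oneFun] at h
  linear_combination -h

theorem bc_one : E.b 1 + E.c 1 = -1 - E.psi 1 := by
  have h := congrFun E.f_eps 1
  rw [f, fTI_one] at h
  simp only [Pi.add_apply, oneFun] at h
  linear_combination -h

theorem kappa_nonreal {a : D.K →* ℂˣ} (ha : a * a ≠ 1) :
    1 + 1 / E.psi 1 + 4 / (-1 - E.psi 1) = 4 * (Nat.card D.K : ℂ) ^ 3 / Nat.card G := by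
  rw [← D.sum_kappa a (dual_sq_ne ha), E.f_nonreal a ha]
  simp only [classInner_add_left, add_mul, add_div, Finset.sum_add_distrib]
  have hq : ∀ χ : G → ℂ, (-χ) D.t ^ 2 = χ D.t ^ 2 := fun χ => by simp
  rw [sum_signed signed_one (fun χ => χ D.t ^ 2) hq, sum_signed E.psi_s (fun χ => χ D.t ^ 2) hq,
    sum_signed (E.phi_s a ha) (fun χ => χ D.t ^ 2) hq, E.phi_one ha]
  have e1 : E.psi D.t = 1 := E.psi_apply D.tK_ne_one
  have e2 : E.phi a D.t = -2 * (a D.tK : ℂ) := by
    have h := E.phi_apply ha D.tK_ne_one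
    rw [D.tK_inv] at h
    calc E.phi a D.t = _ := h
      _ = _ := by ring
  rw [e1, e2]
  rcases D.hom_t_cases a with e | e <;> rw [e] <;> norm_num

theorem kappa_eps :
    1 + 1 / E.psi 1 + 1 / E.b 1 + 1 / E.c 1 = 4 * (Nat.card D.K : ℂ) ^ 3 / Nat.card G := by
  rw [← D.sum_kappa E.ε E.ε_ne, E.f_eps]
  simp only [classInner_add_left, add_mul, add_div, Finset.sum_add_distrib]
  have hq : ∀ χ : G → ℂ, (-χ) D.t ^ 2 = χ D.t ^ 2 := fun χ => by simp
  rw [sum_signed signed_one (fun χ => χ D.t ^ 2) hq, sum_signed E.psi_s (fun χ => χ D.t ^ 2) hq,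
    sum_signed E.b_s (fun χ => χ D.t ^ 2) hq, sum_signed E.c_s (fun χ => χ D.t ^ 2) hq]
  have e1 : E.psi D.t = 1 := E.psi_apply D.tK_ne_one
  have e2 : E.b D.t = -(E.ε D.tK : ℂ) := E.b_apply D.tK_ne_one
  have e3 : E.c D.t = -(E.ε D.tK : ℂ) := E.c_apply D.tK_ne_one
  rw [e1, e2, e3]
  rcases D.hom_t_cases E.ε with e | e <;> rw [e] <;> norm_num

theorem b_eq_c (hk : 3 ≤ Nat.card D.K) : E.b 1 = E.c 1 := by
  obtain ⟨a, ha⟩ := D.exists_nonreal hk
  have h1 := IsSignedIrr.apply_one_ne_zero E.b_s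
  have h2 := IsSignedIrr.apply_one_ne_zero E.c_s
  have h3 := IsSignedIrr.apply_one_ne_zero (E.phi_s a ha)
  rw [E.phi_one ha] at h3
  have h := E.kappa_eps.trans (E.kappa_nonreal ha).symm
  have h4 : 1 / E.b 1 + 1 / E.c 1 = 4 / (-1 - E.psi 1) := by linear_combination h
  rw [← E.bc_one] at h4 h3
  field_simp at h4
  have h5 : (E.b 1 - E.c 1) ^ 2 = 0 := by linear_combination h4
  exact sub_eq_zero.1 (sq_eq_zero_iff.1 h5)

theorem degree_eq (hk : 3 ≤ Nat.card D.K) :
    (Nat.card G : ℂ) * (E.psi 1 - 1) ^ 2 = 4 * (Nat.card D.K : ℂ) ^ 3 * (E.psi 1 * (E.psi 1 + 1)) := by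
  obtain ⟨a, ha⟩ := D.exists_nonreal hk
  have h1 := IsSignedIrr.apply_one_ne_zero E.psi_s
  have h3 := IsSignedIrr.apply_one_ne_zero (E.phi_s a ha)
  rw [E.phi_one ha] at h3
  have h := E.kappa_nonreal ha
  have hG : (Nat.card G : ℂ) ≠ 0 := by exact_mod_cast (Nat.card_pos (α := G)).ne'
  field_simp at h
  linear_combination -h

/-- Restriction to `K` gives an integer multiplicity of the trivial character. -/
theorem exists_sum_K {S : G → ℂ} (hS : IsSignedIrr S) :
    ∃ n : ℤ, ∑ x : D.K, S x = (Nat.card D.K : ℂ) * n := by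
  obtain ⟨n, hn⟩ := IsGeneralized.exists_classInner_eq_int
    (IsGeneralized.restrict (signed_isGeneralized hS) D.K) (isGeneralized_one (G := D.K))
  refine ⟨n, ?_⟩
  have h := sum_eq_card_mul_classInner (fun x : D.K => S x) (fun _ => (1 : ℂ))
  simp only [map_one, mul_one] at h
  rw [h]
  exact congrArg _ hn

theorem exists_j (hk : 3 ≤ Nat.card D.K) :
    ∃ j : ℤ, E.psi 1 = 1 + 2 * (Nat.card D.K : ℂ) * j := by
  classical
  obtain ⟨n, hn⟩ := exists_sum_K (D := D) E.b_s
  have h1 : ∀ x : D.K, E.b x = -(E.ε x : ℂ) + (if x = 1 then E.b 1 + 1 else 0) := by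
    intro x
    by_cases hx : x = 1
    · subst hx; simp
    · rw [if_neg hx, E.b_apply hx, add_zero]
  rw [Finset.sum_congr rfl fun x _ => h1 x, Finset.sum_add_distrib, Finset.sum_neg_distrib, sum_hom,
    if_neg E.ε_ne, Finset.sum_ite_eq', if_pos (Finset.mem_univ _)] at hn
  refine ⟨-n, ?_⟩
  push_cast
  linear_combination (-2 : ℂ) * hn + E.bc_one + E.b_eq_c hk

theorem degree_bound (hk : 3 ≤ Nat.card D.K) {d : ℤ} (hd : E.psi 1 = d) :
    2 * d ^ 2 + ((Nat.card D.K : ℤ) - 2) * (1 + d) ^ 2 ≤ 2 * Nat.card G := by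
  classical
  set S : Finset (D.K →* ℂˣ) := Finset.univ.filter fun a => a * a ≠ 1 with hS
  have hSc : (S.card : ℤ) = (Nat.card D.K : ℤ) - 2 := by
    have h1 : (Finset.univ.filter fun a : D.K →* ℂˣ => ¬ a * a ≠ 1) = {1, E.ε} := by
      ext a
      simp only [Finset.mem_filter, Finset.mem_univ, true_and, not_not, Finset.mem_insert,
        Finset.mem_singleton]
      refine ⟨E.real a, ?_⟩
      rintro (rfl | rfl)
      · exact MonoidHom.ext fun x => by simp
      · exact E.ε_sq
    have h2 := Finset.card_filter_add_card_filter_not (s := (Finset.univ : Finset (D.K →* ℂˣ)))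
      (fun a => a * a ≠ 1)
    rw [h1, Finset.card_pair E.ε_ne.symm, Finset.card_univ, ← Nat.card_eq_fintype_card,
      card_dual D.dih] at h2
    rw [← h2]; push_cast; ring
  set R : G → ℂ := fun g => if g = 1 then (Nat.card G : ℂ) else 0 with hR
  set T : G → ℂ := (d : ℂ) • E.psi + (((-1 - d : ℤ) : ℂ) / 2) • ∑ a ∈ S, E.phi a with hT
  have hRS : ∀ A : G → ℂ, Cfsg.classInner R A = conj (A 1) := by
    intro A
    have hG : (Nat.card G : ℂ) ≠ 0 := by exact_mod_cast (Nat.card_pos (α := G)).ne'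
    simp only [classInner_def, hR, ite_mul, zero_mul, Finset.sum_ite_eq', Finset.mem_univ, if_true]
    rw [← mul_assoc, inv_mul_cancel₀ hG, one_mul]
  have hphi : ∀ a ∈ S, ∑ b ∈ S, Cfsg.classInner (E.phi a) (E.phi b) = 2 := by
    intro a ha
    rw [hS, Finset.mem_filter] at ha
    have hne : a ≠ a⁻¹ := fun e => ha.2 (dual_self_inv e)
    have hai : a⁻¹ * a⁻¹ ≠ 1 := fun e => ha.2 (by
      refine MonoidHom.ext fun x => ?_
      have := DFunLike.congr_fun e x
      simp only [MonoidHom.mul_apply, MonoidHom.inv_apply, MonoidHom.one_apply, ← mul_inv, inv_eq_one] at this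
      exact this)
    have heq : E.phi a⁻¹ = E.phi a := by
      have h1 := E.f_nonreal a ha.2
      have h2 := E.f_nonreal a⁻¹ hai
      rw [f, fTI_inv D.dih] at h2
      rw [f] at h1
      exact add_left_cancel (h2.symm.trans h1)
    rw [Finset.sum_eq_add a a⁻¹ hne, heq, IsSignedIrr.classInner_self (E.phi_s a ha.2)]
    · norm_num
    · intro b hb hbn
      rw [hS, Finset.mem_filter] at hb
      exact E.phi_phi ha.2 hb.2 (fun e => hbn.1 e.symm) (fun e => hbn.2 (dual_eq_inv' e))
    · intro h; exact absurd (by simp [hS, ha.2]) h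
    · intro h; exact absurd (by simp [hS, hai]) h
  have h1 : Cfsg.classInner R R = Nat.card G := by
    rw [hRS, hR]
    simp only [if_true, Complex.conj_natCast]
  have hpsi : Cfsg.classInner E.psi (∑ a ∈ S, E.phi a) = 0 := by
    rw [classInner_sum_right]
    exact Finset.sum_eq_zero fun a ha => E.psi_phi a (Finset.mem_filter.1 ha).2
  have hpsi' : Cfsg.classInner (∑ a ∈ S, E.phi a) E.psi = 0 := by
    rw [← classInner_conj E.psi, hpsi, map_zero]
  have hss : Cfsg.classInner (∑ a ∈ S, E.phi a) (∑ a ∈ S, E.phi a) = 2 * (S.card : ℂ) := by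
    rw [classInner_sum_left]
    simp only [classInner_sum_right]
    rw [Finset.sum_congr rfl hphi, Finset.sum_const, nsmul_eq_mul, mul_comm]
  have hRs : Cfsg.classInner R (∑ a ∈ S, E.phi a) = (S.card : ℂ) * ((-1 - d : ℤ) : ℂ) := by
    rw [hRS, Finset.sum_apply, Finset.sum_congr rfl fun a ha => E.phi_one (Finset.mem_filter.1 ha).2, hd,
      Finset.sum_const, nsmul_eq_mul]
    simp only [map_mul, map_sub, map_neg, map_one, map_natCast, map_intCast, Int.cast_sub, Int.cast_neg, Int.cast_one]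
    rfl
  have hRp : Cfsg.classInner R E.psi = (d : ℂ) := by rw [hRS, hd]; simp
  have h2 : Cfsg.classInner R T = (d : ℂ) ^ 2 + (S.card : ℂ) / 2 * ((-1 - d : ℤ) : ℂ) ^ 2 := by
    rw [hT, classInner_add_right, classInner_smul_right, classInner_smul_right, hRp, hRs]
    simp only [map_div₀, map_intCast, map_ofNat]
    ring
  have h3 : Cfsg.classInner T T = (d : ℂ) ^ 2 + (S.card : ℂ) / 2 * ((-1 - d : ℤ) : ℂ) ^ 2 := by
    rw [hT]
    simp only [classInner_add_left, classInner_add_right, classInner_smul_left, classInner_smul_right,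
      IsSignedIrr.classInner_self E.psi_s, hpsi, hpsi', hss, map_div₀, map_intCast, map_ofNat]
    ring
  have h4 : Cfsg.classInner T R = (d : ℂ) ^ 2 + (S.card : ℂ) / 2 * ((-1 - d : ℤ) : ℂ) ^ 2 := by
    rw [← classInner_conj R T, h2]
    simp only [map_add, map_mul, map_pow, map_div₀, map_intCast, map_ofNat, Complex.conj_natCast]
  have hpos : 0 ≤ (Cfsg.classInner (R - T) (R - T)).re := by
    rw [classInner_def]
    rw [show (Nat.card G : ℂ)⁻¹ = (((Nat.card G : ℝ)⁻¹ : ℝ) : ℂ) by push_cast; rfl, Complex.re_ofReal_mul,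
      Complex.re_sum]
    refine mul_nonneg (by positivity) (Finset.sum_nonneg fun g _ => ?_)
    rw [Complex.mul_conj, Complex.ofReal_re]
    exact Complex.normSq_nonneg _
  have hval : Cfsg.classInner (R - T) (R - T) =
      (((Nat.card G : ℝ) - ((d : ℝ) ^ 2 + (S.card : ℝ) / 2 * ((-1 - d : ℤ) : ℝ) ^ 2) : ℝ) : ℂ) := by
    rw [classInner_sub_left, classInner_sub_right, classInner_sub_right, h1, h2, h3, h4]
    push_cast
    ring
  rw [hval, Complex.ofReal_re] at hpos
  push_cast at hpos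
  have : ((2 * d ^ 2 + (S.card : ℤ) * (1 + d) ^ 2 : ℤ) : ℝ) ≤ ((2 * Nat.card G : ℤ) : ℝ) := by
    push_cast; linarith
  rw [← hSc]
  exact_mod_cast this

/-- The degree of the common character determines the order. -/
theorem order (hk : 3 ≤ Nat.card D.K) :
    ∃ d : ℤ, E.psi 1 = d ∧ (d = 1 + 2 * (Nat.card D.K : ℤ) ∨ d = 1 - 2 * (Nat.card D.K : ℤ)) ∧
      (Nat.card G : ℤ) = Nat.card D.K * d * (d + 1) := by
  obtain ⟨j, hj⟩ := E.exists_j hk
  set k : ℤ := (Nat.card D.K : ℤ) with hkdef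
  set d : ℤ := 1 + 2 * k * j with hddef
  have hd : E.psi 1 = (d : ℂ) := by rw [hj, hddef, hkdef]; push_cast; ring
  have he := E.degree_eq hk
  rw [hd] at he
  have heZ : (Nat.card G : ℤ) * (d - 1) ^ 2 = 4 * k ^ 3 * (d * (d + 1)) := by
    have hkc : (k : ℂ) = (Nat.card D.K : ℂ) := by rw [hkdef]; push_cast; rfl
    rw [← hkc] at he
    exact_mod_cast he
  have hk4 : 4 ≤ k := by
    obtain ⟨r, hr⟩ := D.even_card_K
    omega
  have hk0 : k ≠ 0 := by omega
  have heq : (Nat.card G : ℤ) * j ^ 2 = k * d * (d + 1) := by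
    apply mul_left_cancel₀ (show (4 * k ^ 2 : ℤ) ≠ 0 by positivity)
    linear_combination heZ + (Nat.card G : ℤ) * (-(d - 1 + 2 * k * j)) * hddef
  have hb := E.degree_bound hk hd
  rw [← hkdef] at hb
  have hj0 : j ≠ 0 := by
    rintro rfl
    rw [hddef] at heq
    ring_nf at heq
    omega
  have hj1 : j = 1 ∨ j = -1 := by
    by_contra hj1
    have hj2 : 2 ≤ j ∨ j ≤ -2 := by omega
    have hjsq : 4 ≤ j ^ 2 := by rcases hj2 with h | h <;> nlinarith
    have hG : 0 ≤ (Nat.card G : ℤ) := Int.natCast_nonneg _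
    have hGj : 4 * (Nat.card G : ℤ) ≤ k * d * (d + 1) := by
      calc 4 * (Nat.card G : ℤ) ≤ j ^ 2 * Nat.card G := mul_le_mul_of_nonneg_right hjsq hG
        _ = _ := by rw [← heq]; ring
    rcases hj2 with h | h
    · have hd8 : 8 ≤ d := by nlinarith
      nlinarith [mul_nonneg (by omega : (0 : ℤ) ≤ k) (sq_nonneg d)]
    · have hd8 : d ≤ -8 := by nlinarith
      nlinarith [mul_le_mul_of_nonneg_left hd8 (by omega : (0 : ℤ) ≤ k)]
  refine ⟨d, hd, ?_, ?_⟩
  · rcases hj1 with rfl | rfl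
    · left; rw [hddef]; ring
    · right; rw [hddef]; ring
  · rcases hj1 with rfl | rfl <;> linear_combination heq

end Data.Exc

end CfsgLib.Wall
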