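import Cfsg.Agent.Wall.Local

/-!
The conclusion when the common character has degree `2k + 1`.
-/

set_option autoImplicit false
set_option linter.unusedSectionVars false
set_option linter.style.haveILetI false
set_option linter.deprecated false

namespace CfsgLib.Wall

open Subgroup

universe u

namespace Data.Exc

variable {G : Type u} [Group G] [Fintype G] {D : Data G} [Fintype D.K] [Fintype (D.K →* ℂˣ)]
  (E : D.Exc)

theorem pairs_zero (hk : 3 ≤ Nat.card D.K) {d : ℤ} (hd : E.psi 1 = d)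
    (hd2 : d = 1 + 2 * (Nat.card D.K : ℤ) ∨ d = 1 - 2 * (Nat.card D.K : ℤ))
    (hcard : (Nat.card G : ℤ) = Nat.card D.K * d * (d + 1)) {g : G} (hg : ¬ InConj D.K g) :
    (E.psi g = 0 ∧ 4 * (Nat.card D.K : ℤ) * D.pairs g =
        d * (d + 1) + 2 * ((Nat.card D.K : ℤ) - 1) * d) ∨
      (E.psi g = -1 ∧ 4 * (Nat.card D.K : ℤ) * D.pairs g = (d - 1) * (d + 1)) := by
  obtain ⟨n, hn, hP⟩ := E.psi_int hk hd hd2 hcard hg
  rcases E.psi_cases hk hd hd2 hcard hg with h | h
  · have : n = 0 := by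
      have : (n : ℂ) = ((0 : ℤ) : ℂ) := by rw [← hn, h]; simp
      exact_mod_cast this
    subst this
    exact Or.inl ⟨h, by linear_combination hP⟩
  · have : n = -1 := by
      have : (n : ℂ) = ((-1 : ℤ) : ℂ) := by rw [← hn, h]; simp
      exact_mod_cast this
    subst this
    exact Or.inr ⟨h, by linear_combination hP⟩

theorem concl_plus (hk : 3 ≤ Nat.card D.K) {d : ℤ} (hd : E.psi 1 = d)
    (hdeq : d = 1 + 2 * (Nat.card D.K : ℤ))
    (hcard : (Nat.card G : ℤ) = Nat.card D.K * d * (d + 1)) : Concl G := by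
  classical
  set k := Nat.card D.K with hkdef
  set q : ℕ := 2 * k + 1 with hqdef
  have hdq : d = (q : ℤ) := by rw [hdeq, hqdef]; push_cast; ring
  have hd2 : d = 1 + 2 * (k : ℤ) ∨ d = 1 - 2 * (k : ℤ) := Or.inl hdeq
  have hG : Nat.card G = k * q * (q + 1) := by
    have : (Nat.card G : ℤ) = ((k * q * (q + 1) : ℕ) : ℤ) := by rw [hcard, hdq]; push_cast; ring
    exact_mod_cast this
  obtain ⟨hc0, -⟩ := E.card_zero hk hd hd2 hcard
  set R0 := (rest D.K).filter fun g => E.psi g = 0 with hR0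
  have hR0c : R0.card + 1 = q * q := by
    have : (R0.card : ℤ) + 1 = ((q * q : ℕ) : ℤ) := by rw [hc0, hdq]; push_cast; ring
    exact_mod_cast this
  obtain ⟨g₀, hg₀⟩ : R0.Nonempty := by
    rw [← Finset.card_pos]
    have : 4 ≤ q * q := Nat.mul_le_mul (show 2 ≤ q by omega) (show 2 ≤ q by omega)
    omega
  have hPq : ∀ g, ¬ InConj D.K g → D.pairs g ≠ 0 ∧ (E.psi g = 0 ↔ D.pairs g = q) := by
    intro g hg
    rcases E.pairs_zero hk hd hd2 hcard hg with ⟨h, hP⟩ | ⟨h, hP⟩
    · have hp : (D.pairs g : ℤ) = q := by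
        apply mul_left_cancel₀ (show (4 * k : ℤ) ≠ 0 by omega)
        rw [hP, ← hdq, hdeq]; ring
      have : D.pairs g = q := by exact_mod_cast hp
      exact ⟨by omega, iff_of_true h this⟩
    · have hp : (D.pairs g : ℤ) = ((k + 1 : ℕ) : ℤ) := by
        apply mul_left_cancel₀ (show (4 * k : ℤ) ≠ 0 by omega)
        rw [hP, hdeq]; push_cast; ring
      have : D.pairs g = k + 1 := by exact_mod_cast hp
      exact ⟨by omega, iff_of_false (by rw [h]; norm_num) (by omega)⟩
  have hg₀' := mem_rest.1 (Finset.mem_filter.1 hg₀).1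
  obtain ⟨v, hv⟩ := D.exists_inverter (hPq g₀ hg₀').1
  obtain ⟨z, hz⟩ := D.exists_conj_inverted hg₀' hv
  set g := z * g₀ * z⁻¹ with hgdef
  have hg : ¬ InConj D.K g := fun h => hg₀' (inConj_iff_of_eq.1 h)
  have hgpsi : E.psi g = 0 := by
    rw [hgdef, CfsgLib.Char.IsGeneralized.isClassFunction (signed_isGeneralized E.psi_s) g₀ z]
    exact (Finset.mem_filter.1 hg₀).2
  set Q := centralizer ({g} : Set G) with hQ
  have hQc : Nat.card Q = q := by rw [← (D.pairs_spec hg hz).2]; exact (hPq g hg).2.1 hgpsi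
  have hTI : ∀ c ∈ Q, c ≠ 1 → centralizer ({c} : Set G) = Q := fun c hc hc1 =>
    D.centralizer_eq hg hz hc hc1
  have hQR : ∀ c ∈ Q, c ≠ 1 → ∀ x : G, x * c * x⁻¹ ∈ R0 := by
    intro c hc hc1 x
    have hco := D.centralizer_out hg hc hc1
    have hp : D.pairs c = q := by
      rw [(D.pairs_spec hco ((D.pairs_spec hg hz).1 c hc)).2, hTI c hc hc1, hQc]
    rw [hR0, Finset.mem_filter, mem_rest, inConj_iff_of_eq,
      CfsgLib.Char.IsGeneralized.isClassFunction (signed_isGeneralized E.psi_s) c x]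
    exact ⟨hco, (hPq c hco).2.2 hp⟩
  -- the conjugates of `Q`
  set N := normalizer (Q : Set G) with hN
  have hidx : N.index * (q - 1) ≤ q * q - 1 := by
    haveI := Fintype.ofFinite (G ⧸ N)
    set S := (Finset.univ.filter fun c : G => c ∈ Q).erase 1 with hS
    have hSc : S.card = q - 1 := by
      rw [hS, Finset.card_erase_of_mem (by simp [Q.one_mem])]
      congr 1
      rw [← hQc, Nat.card_eq_fintype_card, Fintype.card_subtype]
    have h := Finset.card_le_card_of_injOn (s := (Finset.univ : Finset (G ⧸ N)) ×ˢ S) (t := R0)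
      (fun p => p.1.out * p.2 * p.1.out⁻¹) (fun p hp => ?_) ?_
    · rw [Finset.card_product, Finset.card_univ, ← Nat.card_eq_fintype_card, hSc] at h
      exact h.trans (by omega)
    · simp only [Finset.mem_coe, Finset.mem_product, hS, Finset.mem_erase, Finset.mem_filter] at hp
      exact hQR _ hp.2.2.2 hp.2.1 _
    · rintro ⟨x, c⟩ hp ⟨x', c'⟩ hp' he
      simp only [Finset.mem_coe, Finset.mem_product, hS, Finset.mem_erase, Finset.mem_filter] at hp hp'
      simp only at he
      have hzc : x'.out⁻¹ * x.out * c * (x'.out⁻¹ * x.out)⁻¹ = c' := by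
        calc x'.out⁻¹ * x.out * c * (x'.out⁻¹ * x.out)⁻¹ =
              x'.out⁻¹ * (x.out * c * x.out⁻¹) * x'.out := by group
          _ = c' := by rw [he]; group
      have hzN : x'.out⁻¹ * x.out ∈ N :=
        mem_normalizer_of_conj hTI hp.2.2.2 hp.2.1 (by rw [hzc]; exact hp'.2.2.2)
      have hx : x' = x := by
        rw [← QuotientGroup.out_eq' x', ← QuotientGroup.out_eq' x]
        exact QuotientGroup.eq.2 hzN
      subst hx
      exact Prod.ext rfl (by simpa using hzc)
  have hidx2 : N.index ≤ q + 1 := by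
    have : q * q - 1 = (q + 1) * (q - 1) := by
      rw [show q = 2 * k + 1 from rfl, Nat.add_sub_cancel]
      rw [Nat.sub_eq_iff_eq_add (by nlinarith)]
      ring
    rw [this] at hidx
    exact Nat.le_of_mul_le_mul_right hidx (by omega)
  have hNH := D.normalizer_inf_H_le hg hz
  have hNHK : N ⊓ centralizer ({D.t} : Set G) = D.K := by
    refine eq_of_le_of_card_ge hNH ?_
    have h1 := D.card_normalizer_le hg hz
    rw [← hQ, ← hN, hQc] at h1
    have h2 := card_mul_index N
    rw [hG] at h2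
    have h4 : k * q * (q + 1) ≤
        q * Nat.card ↥(N ⊓ centralizer ({D.t} : Set G)) * (q + 1) := by
      rw [← h2]
      exact Nat.mul_le_mul h1 hidx2
    have h5 : q * k ≤ q * Nat.card ↥(N ⊓ centralizer ({D.t} : Set G)) := by
      rw [mul_comm q k]
      exact Nat.le_of_mul_le_mul_right h4 (by omega)
    exact Nat.le_of_mul_le_mul_left h5 (by omega)
  have hKN : D.K ≤ N := by rw [← hNHK]; exact inf_le_left
  refine ⟨Q, D.K, ?_, hTI, D.hKab, ?_, D.K_inf_eq_bot hg, ?_, fun X hX hX1 => ?_⟩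
  · rw [hQc, hG, show q - 1 = 2 * k by omega]; ring
  · rw [hQc]
  · refine le_antisymm ?_ (sup_le le_normalizer hKN)
    have := D.normalizer_le_sup hg hz
    rwa [← hQ, ← hN, hNHK] at this
  · have hK1 : D.K ≠ ⊥ := fun h => D.t_ne_one ((eq_bot_iff_forall _).1 h D.t D.htK)
    rw [D.normalizer_le_H hX hX1, D.normalizer_le_H le_rfl hK1]
    exact ⟨rfl, D.s, D.hs, D.hsK, D.hinv, D.hH.symm⟩

end Data.Exc

end CfsgLib.Wall
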