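import Cfsg.Agent.Wall.Order
import Cfsg.Agent.Char.AlgInt

/-!
The values of the common character away from the torus, and the products of two involutions there.
-/

set_option autoImplicit false
set_option linter.unusedSectionVars false
set_option linter.style.haveILetI false
set_option linter.deprecated false

namespace CfsgLib.Wall

open CfsgLib.Char
open scoped ComplexConjugate

universe u

section Torus

variable {G : Type u} [Group G] [Fintype G] {A : Subgroup G} {w : G}

open scoped Classical in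
/-- The non-identity elements with a conjugate in `A`. -/
noncomputable def torus (A : Subgroup G) : Finset G :=
  Finset.univ.filter fun g => InConj A g ∧ g ≠ 1

open scoped Classical in
/-- The elements without a conjugate in `A`. -/
noncomputable def rest (A : Subgroup G) : Finset G := Finset.univ.filter fun g => ¬ InConj A g

theorem mem_torus {g : G} : g ∈ torus A ↔ InConj A g ∧ g ≠ 1 := by classical simp [torus]

theorem mem_rest {g : G} : g ∈ rest A ↔ ¬ InConj A g := by classical simp [rest]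

theorem inConj_one (A : Subgroup G) : InConj A (1 : G) := ⟨1, by simp [one_mem]⟩

theorem ne_one_of_not_inConj {g : G} (hg : ¬ InConj A g) : g ≠ 1 := fun e => hg (e ▸ inConj_one A)

theorem sum_split (h : G → ℂ) :
    ∑ g : G, h g = h 1 + ∑ g ∈ torus A, h g + ∑ g ∈ rest A, h g := by
  classical
  rw [← Finset.sum_filter_add_sum_filter_not Finset.univ (fun g => InConj A g) h]
  congr 1
  rw [← Finset.add_sum_erase _ h (show (1 : G) ∈ Finset.univ.filter (fun g => InConj A g) by
    simp [inConj_one])]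
  congr 1
  refine Finset.sum_congr (Finset.ext fun g => ?_) fun _ _ => rfl
  simp only [Finset.mem_erase, Finset.mem_filter, Finset.mem_univ, true_and, mem_torus, and_comm]

theorem sum_torus [Fintype A] (E : Dih A w) {h : G → ℂ} (hh : Cfsg.IsClassFunction G h) :
    2 * (Nat.card A : ℂ) * ∑ g ∈ torus A, h g =
      (Nat.card G : ℂ) * (∑ a : A, h a - h 1) := by
  classical
  set u : A → ℂ := fun a => if a = 1 then 0 else 1 with hu
  have hu1 : u 1 = 0 := if_pos rfl
  have hval : ∀ g : G, Cfsg.indFun A u g = if InConj A g ∧ g ≠ 1 then 2 else 0 := by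
    intro g
    split_ifs with hg
    · obtain ⟨⟨x, hx⟩, hg1⟩ := hg
      rw [← isClassFunction_indFun A u g x]
      have hne : (⟨_, hx⟩ : A) ≠ 1 := fun e => hg1 (conj_eq_one_iff.1 (congrArg Subtype.val e))
      show Cfsg.indFun A u ((⟨_, hx⟩ : A) : G) = 2
      rw [indFun_apply_mem E u _ hne, hu]
      simp only [hne, if_false, inv_eq_one]
      norm_num
    · by_cases hgc : InConj A g
      · have : g = 1 := by by_contra h1; exact hg ⟨hgc, h1⟩
        subst this
        rw [indFun_one, hu1, mul_zero]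
      · exact indFun_not_inConj u hgc
  have hh' : Cfsg.IsClassFunction G (fun g => conj (h g)) := fun g x => by simp only; rw [hh g x]
  have e := inner_indFun (A := A) u hh'
  rw [classInner_def] at e
  simp only [Complex.conj_conj, hval, ite_mul, zero_mul, ← Finset.sum_filter, ← Finset.mul_sum] at e
  have e2 : ∑ a : A, u a * h a = ∑ a : A, h a - h 1 := by
    have : ∀ a : A, u a * h a = h a - (if a = 1 then h a else 0) := fun a => by
      rw [hu]; simp only; split_ifs <;> ring
    rw [Finset.sum_congr rfl fun a _ => this a, Finset.sum_sub_distrib,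
      Finset.sum_ite_eq', if_pos (Finset.mem_univ _)]
    rfl
  rw [e2] at e
  have hk : (Nat.card A : ℂ) ≠ 0 := by exact_mod_cast (Nat.card_pos (α := A)).ne'
  have hG : (Nat.card G : ℂ) ≠ 0 := by exact_mod_cast (Nat.card_pos (α := G)).ne'
  rw [show (Finset.univ.filter fun g : G => InConj A g ∧ g ≠ 1) = torus A from rfl] at e
  field_simp at e
  linear_combination e

theorem card_torus [Fintype A] (E : Dih A w) :
    2 * Nat.card A * (torus A).card = Nat.card G * (Nat.card A - 1) := by
  have h := sum_torus E (h := fun _ => 1) (fun _ _ => rfl)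
  simp only [Finset.sum_const, Finset.card_univ, nsmul_eq_mul, mul_one, ← Nat.card_eq_fintype_card] at h
  have hpos : 1 ≤ Nat.card A := Nat.card_pos
  have h' : ((2 * Nat.card A * (torus A).card : ℕ) : ℂ) = ((Nat.card G * (Nat.card A - 1) : ℕ) : ℂ) := by
    push_cast [Nat.cast_sub hpos]
    exact h
  exact_mod_cast h'

theorem inConj_iff_of_eq {g x : G} : InConj A (x * g * x⁻¹) ↔ InConj A g := by
  constructor
  · rintro ⟨y, hy⟩; exact ⟨y * x, by simpa [mul_assoc] using hy⟩
  · rintro ⟨y, hy⟩; exact ⟨y * x⁻¹, by simpa [mul_assoc] using hy⟩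

end Torus

namespace Data

variable {G : Type u} [Group G] [Fintype G] (D : Data G)

/-- The number of ordered pairs of involutions with product `g`. -/
noncomputable def pairs (g : G) : ℕ :=
  Nat.card {p : G × G // IsConj D.t p.1 ∧ IsConj D.t p.2 ∧ p.1 * p.2 = g}

section Sums

variable [Fintype D.K] [Fintype (D.K →* ℂˣ)]

theorem apply_t {χ : G → ℂ} (hχ : Cfsg.IsIrrCharacter G χ) :
    χ D.t = -∑ lam : D.K →* ℂˣ, (lam D.tK : ℂ) * Cfsg.classInner (D.f lam) χ := by
  classical
  rw [sum_inner_fTI D.dih (IsIrrCharacter.isClassFunction hχ) D.tK, if_neg D.tK_ne_one, zero_sub,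
    neg_neg, D.tK_inv]
  change χ D.t = conj (χ D.t)
  rw [← IsIrrCharacter.apply_inv hχ, inv_eq_of_mul_eq_one_right D.t_sq]

theorem pairs_eq_sum (g : G) : (D.pairs g : ℂ) =
    (Nat.card G : ℂ) / (4 * (Nat.card D.K : ℂ) ^ 2) *
      ∑ χ ∈ irrFinset G, χ D.t * (χ D.t * conj (χ g)) / χ 1 := by
  have hG : (Nat.card G : ℂ) ≠ 0 := by exact_mod_cast (Nat.card_pos (α := G)).ne'
  have hk : (Nat.card D.K : ℂ) ≠ 0 := by exact_mod_cast (Nat.card_pos (α := D.K)).ne'
  have hcl : (Nat.card {x : G // IsConj D.t x} : ℂ) * (2 * Nat.card D.K) = Nat.card G := by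
    have h := card_conj_class_mul_card_centralizer D.t
    rw [D.card_H] at h
    exact_mod_cast h
  rw [pairs, card_class_products]
  simp only [mul_assoc (_ : ℂ) _ (conj _)]
  congr 1
  field_simp
  linear_combination ((Nat.card {x : G // IsConj D.t x} : ℂ) * (2 * Nat.card D.K) + Nat.card G) * hcl

namespace Exc

variable {D} (E : D.Exc)

theorem bc_out {g : G} (hg : ¬ InConj D.K g) : E.b g + E.c g = -1 - E.psi g := by
  have h := congrFun E.f_eps g
  rw [f, fTI_not_inConj _ hg] at h
  simp only [Pi.add_apply, oneFun] at h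
  linear_combination -h

theorem phi_out {a : D.K →* ℂˣ} (ha : a * a ≠ 1) {g : G} (hg : ¬ InConj D.K g) :
    E.phi a g = -1 - E.psi g := by
  have h := congrFun (E.f_nonreal a ha) g
  rw [f, fTI_not_inConj _ hg] at h
  simp only [Pi.add_apply, oneFun] at h
  linear_combination -h

/-- An even function summed against the decomposition of `f lam`. -/
theorem sum_f_mul (q : (G → ℂ) → ℂ) (hq : ∀ χ, q (-χ) = q χ) :
    (∀ a, a * a ≠ 1 → ∑ χ ∈ irrFinset G, Cfsg.classInner (D.f a) χ * q χ / χ 1 =
        q (oneFun G) + q E.psi / E.psi 1 + q (E.phi a) / E.phi a 1) ∧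
      ∑ χ ∈ irrFinset G, Cfsg.classInner (D.f E.ε) χ * q χ / χ 1 =
        q (oneFun G) + q E.psi / E.psi 1 + q E.b / E.b 1 + q E.c / E.c 1 := by
  refine ⟨fun a ha => ?_, ?_⟩
  · rw [E.f_nonreal a ha]
    simp only [classInner_add_left, add_mul, add_div, Finset.sum_add_distrib]
    rw [sum_signed signed_one q hq, sum_signed E.psi_s q hq, sum_signed (E.phi_s a ha) q hq]
    simp [oneFun]
  · rw [E.f_eps]
    simp only [classInner_add_left, add_mul, add_div, Finset.sum_add_distrib]
    rw [sum_signed signed_one q hq, sum_signed E.psi_s q hq, sum_signed E.b_s q hq,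
      sum_signed E.c_s q hq]
    simp [oneFun]

theorem pairs_out (hk : 3 ≤ Nat.card D.K) {d : ℤ} (hd : E.psi 1 = d)
    (hcard : (Nat.card G : ℤ) = Nat.card D.K * d * (d + 1)) {g : G} (hg : ¬ InConj D.K g) :
    4 * (Nat.card D.K : ℂ) * (D.pairs g : ℂ) =
      ((d : ℂ) + conj (E.psi g)) * (d + 1) +
        2 * ((Nat.card D.K : ℂ) - 1) * d * (1 + conj (E.psi g)) := by
  classical
  obtain ⟨a₀, ha₀⟩ := D.exists_nonreal hk
  have hd0 : (d : ℂ) ≠ 0 := hd ▸ IsSignedIrr.apply_one_ne_zero E.psi_s
  have hd1 : (d : ℂ) + 1 ≠ 0 := by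
    intro h
    refine IsSignedIrr.apply_one_ne_zero (E.phi_s a₀ ha₀) ?_
    rw [E.phi_one ha₀, hd]; linear_combination -h
  have hb : E.b 1 = -(1 + (d : ℂ)) / 2 := by
    linear_combination (E.bc_one + E.b_eq_c hk) / 2 - hd / 2
  have hc : E.c 1 = -(1 + (d : ℂ)) / 2 := by rw [← E.b_eq_c hk, hb]
  set y := conj (E.psi g) with hy
  set A : ℂ := 1 + y / d with hA
  set B : ℂ := 2 * (1 + y) / (1 + d) with hB
  set q : (G → ℂ) → ℂ := fun χ => χ D.t * conj (χ g) with hq
  have hqe : ∀ χ, q (-χ) = q χ := fun χ => by rw [hq]; simp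
  have hsum : ∀ lam : D.K →* ℂˣ,
      ∑ χ ∈ irrFinset G, Cfsg.classInner (D.f lam) χ * q χ / χ 1 =
        if lam = 1 then 0 else A - (lam D.tK : ℂ) * B := by
    intro lam
    split_ifs with h1
    · subst h1
      refine Finset.sum_eq_zero fun χ _ => ?_
      rw [f, fTI_trivial, classInner_zero_left, zero_mul, zero_div]
    have hq1 : q (oneFun G) = 1 := by rw [hq]; simp [oneFun]
    have hqp : q E.psi = y := by
      rw [hq]; simp only
      rw [show E.psi D.t = 1 from E.psi_apply D.tK_ne_one, one_mul]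
    rcases E.cases_ne_one h1 with rfl | ha
    · rw [(E.sum_f_mul q hqe).2, hq1, hqp, hd, hb, hc, hq]
      simp only
      rw [show E.b D.t = -(E.ε D.tK : ℂ) from E.b_apply D.tK_ne_one,
        show E.c D.t = -(E.ε D.tK : ℂ) from E.c_apply D.tK_ne_one, hA, hB]
      have hbc := congrArg conj (E.bc_out hg)
      simp only [map_add, map_sub, map_neg, map_one, ← hy] at hbc
      have hd1' : (1 : ℂ) + d ≠ 0 := by rwa [add_comm]
      field_simp
      linear_combination (2 : ℂ) * (d : ℂ) * (E.ε D.tK : ℂ) * hbc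
    · rw [(E.sum_f_mul q hqe).1 lam ha, hq1, hqp, hd, E.phi_one ha, hd, hq]
      simp only
      have e2 : E.phi lam D.t = -2 * (lam D.tK : ℂ) := by
        have h := E.phi_apply ha D.tK_ne_one
        rw [D.tK_inv] at h
        calc E.phi lam D.t = _ := h
          _ = _ := by ring
      rw [e2, E.phi_out ha hg, hA, hB, map_sub, map_neg, map_one, ← hy]
      rw [show (-1 - (d : ℂ)) = -(1 + d) by ring]
      field_simp
      ring
  have hS : ∑ χ ∈ irrFinset G, χ D.t * (χ D.t * conj (χ g)) / χ 1 =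
      A + ((Nat.card D.K : ℂ) - 1) * B := by
    have h1 : ∀ χ ∈ irrFinset G, χ D.t * (χ D.t * conj (χ g)) / χ 1 =
        -∑ lam : D.K →* ℂˣ, (lam D.tK : ℂ) * (Cfsg.classInner (D.f lam) χ * q χ / χ 1) := by
      intro χ hχ
      nth_rw 1 [D.apply_t (mem_irrFinset.1 hχ)]
      rw [neg_mul, neg_div, Finset.sum_mul, Finset.sum_div, hq]
      congr 1
      exact Finset.sum_congr rfl fun lam _ => by ring
    rw [Finset.sum_congr rfl h1, Finset.sum_neg_distrib, Finset.sum_comm]
    simp only [← Finset.mul_sum, hsum]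
    have h2 : ∀ lam : D.K →* ℂˣ, (lam D.tK : ℂ) * (if lam = 1 then 0 else A - (lam D.tK : ℂ) * B) =
        (lam D.tK : ℂ) * A - B + (if lam = 1 then B - A else 0) := by
      intro lam
      have hsq : (lam D.tK : ℂ) * lam D.tK = 1 := by
        rcases D.hom_t_cases lam with e | e <;> rw [e] <;> norm_num
      split_ifs with h
      · subst h; simp
      · linear_combination (-B) * hsq
    rw [Finset.sum_congr rfl fun lam _ => h2 lam, Finset.sum_add_distrib, Finset.sum_sub_distrib,
      ← Finset.sum_mul, sum_dual D.dih, if_neg D.tK_ne_one, Finset.sum_const, Finset.card_univ,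
      nsmul_eq_mul, Finset.sum_ite_eq', if_pos (Finset.mem_univ _), ← Nat.card_eq_fintype_card,
      card_dual D.dih]
    ring
  have hGc : (Nat.card G : ℂ) = (Nat.card D.K : ℂ) * d * (d + 1) := by exact_mod_cast hcard
  have hk0 : (Nat.card D.K : ℂ) ≠ 0 := by exact_mod_cast (Nat.card_pos (α := D.K)).ne'
  rw [D.pairs_eq_sum, hS, hGc, hA, hB]
  have hd1' : (1 : ℂ) + d ≠ 0 := by rwa [add_comm]
  field_simp
  ring

theorem psi_int (hk : 3 ≤ Nat.card D.K) {d : ℤ} (hd : E.psi 1 = d)
    (hd2 : d = 1 + 2 * (Nat.card D.K : ℤ) ∨ d = 1 - 2 * (Nat.card D.K : ℤ))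
    (hcard : (Nat.card G : ℤ) = Nat.card D.K * d * (d + 1)) {g : G} (hg : ¬ InConj D.K g) :
    ∃ n : ℤ, E.psi g = n ∧
      4 * (Nat.card D.K : ℤ) * D.pairs g =
        (d + n) * (d + 1) + 2 * ((Nat.card D.K : ℤ) - 1) * d * (1 + n) := by
  have hP := E.pairs_out hk hd hcard hg
  set k : ℤ := (Nat.card D.K : ℤ) with hkd
  set co : ℤ := d + 1 + 2 * (k - 1) * d with hco
  have hco0 : co ≠ 0 := by
    rw [hco]
    rcases hd2 with rfl | rfl <;> intro h <;> nlinarith
  have hkc : (Nat.card D.K : ℂ) = (k : ℂ) := by rw [hkd]; simp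
  rw [hkc] at hP
  obtain ⟨r, hr⟩ : ∃ r : ℚ, conj (E.psi g) = (r : ℂ) := by
    refine ⟨((4 * k * (D.pairs g : ℤ) - d * (d + 1) - 2 * (k - 1) * d : ℤ) : ℚ) / (co : ℚ), ?_⟩
    push_cast
    rw [eq_div_iff (by exact_mod_cast hco0), hco]
    push_cast
    linear_combination -hP
  have hr' : E.psi g = (r : ℂ) := by
    have h := congrArg conj hr
    rwa [Complex.conj_conj, map_ratCast] at h
  obtain ⟨n, hn, -⟩ := exists_int_of_isIntegral_rat r
    (IsGeneralized.isIntegral (signed_isGeneralized E.psi_s) g) hr'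
  refine ⟨n, hn, ?_⟩
  rw [hn, map_intCast] at hP
  exact_mod_cast hP

/-- The common character takes the values `0` and `-1` off the torus. -/
theorem psi_cases (hk : 3 ≤ Nat.card D.K) {d : ℤ} (hd : E.psi 1 = d)
    (hd2 : d = 1 + 2 * (Nat.card D.K : ℤ) ∨ d = 1 - 2 * (Nat.card D.K : ℤ))
    (hcard : (Nat.card G : ℤ) = Nat.card D.K * d * (d + 1)) {g : G} (hg : ¬ InConj D.K g) :
    E.psi g = 0 ∨ E.psi g = -1 := by
  classical
  obtain ⟨a, ha⟩ := D.exists_nonreal hk
  have hint : ∀ g ∈ rest D.K, ∃ n : ℤ, E.psi g = n := fun g hg => by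
    obtain ⟨n, hn, -⟩ := E.psi_int hk hd hd2 hcard (mem_rest.1 hg)
    exact ⟨n, hn⟩
  choose! y hy using hint
  have horth : ∑ g : G, E.psi g * conj (E.phi a g) = 0 := by
    rw [sum_eq_card_mul_classInner, E.psi_phi a ha, mul_zero]
  rw [sum_split (A := D.K)] at horth
  have hcl : Cfsg.IsClassFunction G (fun g => E.psi g * conj (E.phi a g)) := fun g x => by
    simp only
    rw [IsGeneralized.isClassFunction (signed_isGeneralized E.psi_s) g x,
      IsGeneralized.isClassFunction (signed_isGeneralized (E.phi_s a ha)) g x]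
  have htor := sum_torus D.dih hcl
  have hsumK : ∑ x : D.K, E.psi (x : G) * conj (E.phi a (x : G)) - E.psi 1 * conj (E.phi a 1) = 2 := by
    have h1 : ∀ x : D.K, E.psi (x : G) * conj (E.phi a (x : G)) =
        -(a x⁻¹ : ℂ) - a x + (if x = 1 then E.psi 1 * conj (E.phi a 1) + 2 else 0) := by
      intro x
      by_cases hx : x = 1
      · subst hx; simp; ring
      · rw [if_neg hx, E.psi_apply hx, E.phi_apply ha hx]
        simp only [map_sub, map_neg, conj_hom_apply, inv_inv]
        ring
    have hinv : ∑ x : D.K, (a x⁻¹ : ℂ) = ∑ x : D.K, (a x : ℂ) :=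
      Fintype.sum_equiv (Equiv.inv D.K) _ _ fun x => rfl
    rw [Finset.sum_congr rfl fun x _ => h1 x, Finset.sum_add_distrib, Finset.sum_sub_distrib,
      Finset.sum_neg_distrib, hinv, sum_hom, if_neg (dual_sq_ne ha), Finset.sum_ite_eq',
      if_pos (Finset.mem_univ _)]
    ring
  rw [hsumK] at htor
  have h1 : E.psi 1 * conj (E.phi a 1) = (d : ℂ) * (-1 - d) := by
    rw [E.phi_one ha, hd]; simp
  have hR : ∑ g ∈ rest D.K, E.psi g * conj (E.phi a g) = ((-∑ g ∈ rest D.K, (y g ^ 2 + y g) : ℤ) : ℂ) := by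
    push_cast
    rw [← Finset.sum_neg_distrib]
    refine Finset.sum_congr rfl fun g hg => ?_
    rw [E.phi_out ha (mem_rest.1 hg), hy g hg]
    simp only [map_sub, map_neg, map_one, map_intCast]
    ring
  rw [h1, hR] at horth
  have hGc : (Nat.card G : ℂ) = (Nat.card D.K : ℂ) * d * (d + 1) := by exact_mod_cast hcard
  rw [hGc] at htor
  have hk0 : (Nat.card D.K : ℂ) ≠ 0 := by exact_mod_cast (Nat.card_pos (α := D.K)).ne'
  have htor' : ∑ g ∈ torus D.K, E.psi g * conj (E.phi a g) = (d : ℂ) * (d + 1) := by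
    apply mul_left_cancel₀ (mul_ne_zero two_ne_zero hk0)
    linear_combination htor
  rw [htor'] at horth
  have hzero : ∑ g ∈ rest D.K, (y g ^ 2 + y g) = 0 := by
    have : ((∑ g ∈ rest D.K, (y g ^ 2 + y g) : ℤ) : ℂ) = ((0 : ℤ) : ℂ) := by
      push_cast at horth ⊢
      linear_combination -horth
    exact_mod_cast this
  have hz : y g ^ 2 + y g = 0 := by
    refine (Finset.sum_eq_zero_iff_of_nonneg fun h _ => ?_).1 hzero g (mem_rest.2 hg)
    rcases le_or_gt 0 (y h) with e | e <;> nlinarith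
  have hmul : y g * (y g + 1) = 0 := by linear_combination hz
  rw [hy g (mem_rest.2 hg)]
  rcases mul_eq_zero.1 hmul with e | e
  · left; rw [e]; simp
  · right; rw [show y g = -1 by omega]; simp

open scoped Classical in
/-- The number of elements off the torus where the common character vanishes. -/
theorem card_zero (hk : 3 ≤ Nat.card D.K) {d : ℤ} (hd : E.psi 1 = d)
    (hd2 : d = 1 + 2 * (Nat.card D.K : ℤ) ∨ d = 1 - 2 * (Nat.card D.K : ℤ))
    (hcard : (Nat.card G : ℤ) = Nat.card D.K * d * (d + 1)) :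
    (((rest D.K).filter fun g => E.psi g = 0).card : ℤ) = d ^ 2 - 1 ∧
      (((rest D.K).filter fun g => ¬ E.psi g = 0).card : ℤ) = d + (torus D.K).card := by
  set R0 := (rest D.K).filter fun g => E.psi g = 0 with hR0
  set R1 := (rest D.K).filter fun g => ¬ E.psi g = 0 with hR1
  have h1sum : ∑ g : G, E.psi g = 0 := by
    have h := sum_eq_card_mul_classInner E.psi (oneFun G)
    simp only [oneFun, map_one, mul_one] at h
    rw [h, classInner_symm (signed_isGeneralized E.psi_s)
      (signed_isGeneralized (signed_one (G := G))), E.one_psi, mul_zero]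
  have htor : ∑ g ∈ torus D.K, E.psi g = (torus D.K).card := by
    rw [Finset.cast_card]
    refine Finset.sum_congr rfl fun g hg => ?_
    obtain ⟨⟨x, hx⟩, hg1⟩ := mem_torus.1 hg
    rw [← IsGeneralized.isClassFunction (signed_isGeneralized E.psi_s) g x]
    exact E.psi_apply (x := ⟨_, hx⟩) fun e => hg1 (conj_eq_one_iff.1 (congrArg Subtype.val e))
  have hrest : ∑ g ∈ rest D.K, E.psi g = -(R1.card : ℂ) := by
    rw [← Finset.sum_filter_add_sum_filter_not (rest D.K) (fun g => E.psi g = 0), ← hR0, ← hR1]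
    rw [Finset.sum_eq_zero fun g hg => (Finset.mem_filter.1 hg).2, zero_add,
      Finset.sum_congr rfl fun g hg => ((E.psi_cases hk hd hd2 hcard
        (mem_rest.1 (Finset.mem_filter.1 hg).1)).resolve_left (Finset.mem_filter.1 hg).2),
      Finset.sum_const, nsmul_eq_mul]
    ring
  rw [sum_split (A := D.K), htor, hrest, hd] at h1sum
  have hR1c : (R1.card : ℤ) = d + (torus D.K).card := by
    have : ((R1.card : ℤ) : ℂ) = ((d + (torus D.K).card : ℤ) : ℂ) := by
      push_cast; linear_combination -h1sum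
    exact_mod_cast this
  refine ⟨?_, hR1c⟩
  have hall : (Nat.card G : ℂ) = ((1 + (torus D.K).card + (rest D.K).card : ℕ) : ℂ) := by
    have h := sum_split (A := D.K) (fun _ : G => (1 : ℂ))
    simp only [Finset.sum_const, Finset.card_univ, nsmul_eq_mul, mul_one] at h
    rw [Nat.card_eq_fintype_card, h]
    push_cast; rfl
  have hall' : Nat.card G = 1 + (torus D.K).card + (rest D.K).card := by exact_mod_cast hall
  have hsplit : R0.card + R1.card = (rest D.K).card :=
    Finset.card_filter_add_card_filter_not _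
  have hT := card_torus D.dih
  have hpos : 1 ≤ Nat.card D.K := Nat.card_pos
  have hT' : (2 * (Nat.card D.K : ℤ)) * (torus D.K).card = Nat.card G * ((Nat.card D.K : ℤ) - 1) := by
    have := congrArg (fun n : ℕ => (n : ℤ)) hT
    push_cast [Nat.cast_sub hpos] at this
    exact this
  have hT2 : 2 * ((torus D.K).card : ℤ) = d * (d + 1) * ((Nat.card D.K : ℤ) - 1) := by
    apply mul_left_cancel₀ (show (Nat.card D.K : ℤ) ≠ 0 by omega)
    rw [hcard] at hT'
    linear_combination hT'
  have e1 : (Nat.card G : ℤ) = 1 + (torus D.K).card + (rest D.K).card := by exact_mod_cast hall'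
  have e2 : (R0.card : ℤ) + R1.card = (rest D.K).card := by exact_mod_cast hsplit
  linear_combination e2 - hR1c - e1 + hcard - hT2

end Exc

end Sums

/-- An element off the torus that is inverted is inverted by an involution only. -/
theorem inverter_sq {g x : G} (hg : ¬ InConj D.K g) (hx : x * g * x⁻¹ = g⁻¹) :
    x * x = 1 ∧ x ≠ 1 := by
  have hgg : g * g ≠ 1 := fun e => hg (D.invol_inConj e (ne_one_of_not_inConj hg))
  have hx1 : x ≠ 1 := fun e => hgg (by
    rw [e, one_mul, inv_one, mul_one] at hx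
    exact mul_eq_one_iff_eq_inv.2 hx)
  refine ⟨?_, hx1⟩
  by_contra hne
  have hxx : x * x * g = g * (x * x) := by
    have : x * x * g * (x * x)⁻¹ = g := by
      calc x * x * g * (x * x)⁻¹ = x * (x * g * x⁻¹) * x⁻¹ := by group
        _ = (x * g * x⁻¹)⁻¹ := by conv_lhs => rw [hx]
                                  group
        _ = g := by rw [hx, inv_inv]
    exact mul_inv_eq_iff_eq_mul.1 this
  have heven : 2 ∣ orderOf x := by
    by_contra hodd
    have hodd' : Odd (orderOf x) := Nat.not_even_iff_odd.1 fun h => hodd h.two_dvd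
    obtain ⟨m, hm⟩ := hodd'
    have hxm : x = (x * x) ^ (m + 1) := by
      rw [← sq, ← pow_mul, show 2 * (m + 1) = 2 * m + 1 + 1 by ring, pow_succ, ← hm, pow_orderOf_eq_one,
        one_mul]
    have hcom : Commute x g := by rw [hxm]; exact (show Commute (x * x) g from hxx).pow_left _
    rw [hcom.eq, mul_inv_cancel_right] at hx
    exact hgg (mul_eq_one_iff_eq_inv.2 hx)
  obtain ⟨v, hv⟩ : ∃ v : Subgroup.zpowers x, orderOf v = 2 := by
    haveI : Fact (Nat.Prime 2) := ⟨Nat.prime_two⟩
    exact exists_prime_orderOf_dvd_card' 2 (by rwa [Nat.card_zpowers])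
  have hv2 : (v : G) * v = 1 := by
    have h := pow_orderOf_eq_one v
    rw [hv, sq] at h
    exact congrArg Subtype.val h
  have hv1 : (v : G) ≠ 1 := fun e => by
    have : v = 1 := Subtype.ext e
    rw [this, orderOf_one] at hv
    omega
  have hvx : x * x * (v : G) = v * (x * x) := by
    obtain ⟨i, hi⟩ := v.2
    rw [← hi]
    exact (((Commute.refl x).mul_left (Commute.refl x)).zpow_right i).eq
  have h1 : InConj D.K (x * x) := D.inConj_of_commute hv2 hv1 hvx
  exact hg (D.inConj_of_centralizes h1 hne hxx.symm)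

theorem pairs_spec {g : G} (hg : ¬ InConj D.K g) {v : G} (hv : v * g * v⁻¹ = g⁻¹) :
    (∀ c, c ∈ Subgroup.centralizer ({g} : Set G) → v * c * v⁻¹ = c⁻¹) ∧
      D.pairs g = Nat.card (Subgroup.centralizer ({g} : Set G)) := by
  obtain ⟨hv2, hv1⟩ := D.inverter_sq hg hv
  have hvi : v⁻¹ = v := inv_eq_of_mul_eq_one_right hv2
  have hgc : ∀ c, c ∈ Subgroup.centralizer ({g} : Set G) → v * c * g * (v * c)⁻¹ = g⁻¹ := by
    intro c hc
    have := Subgroup.mem_centralizer_singleton_iff.1 hc
    calc v * c * g * (v * c)⁻¹ = v * (c * g) * c⁻¹ * v⁻¹ := by group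
      _ = v * g * v⁻¹ := by rw [this]; group
      _ = g⁻¹ := hv
  have hinv : ∀ c, c ∈ Subgroup.centralizer ({g} : Set G) → v * c * v⁻¹ = c⁻¹ := by
    intro c hc
    have h := (D.inverter_sq hg (hgc c hc)).1
    rw [hvi]
    exact eq_inv_of_mul_eq_one_left (by rw [mul_assoc, mul_assoc]; rw [mul_assoc] at h; exact h)
  refine ⟨hinv, ?_⟩
  have hto : ∀ p : {p : G × G // IsConj D.t p.1 ∧ IsConj D.t p.2 ∧ p.1 * p.2 = g},
      v * p.1.1 ∈ Subgroup.centralizer ({g} : Set G) := by
    rintro ⟨⟨p, q⟩, hp, hq, hpq⟩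
    have hsq : ∀ {z : G}, IsConj D.t z → z * z = 1 := by
      intro z hz
      obtain ⟨w, rfl⟩ := isConj_iff.1 hz
      rw [conj_mul, D.t_sq, mul_one, mul_inv_cancel]
    have hp2 := hsq hp
    have hq2 := hsq hq
    simp only at hpq ⊢
    have hpg : p * g * p⁻¹ = g⁻¹ := by
      rw [← hpq, mul_inv_rev, ← mul_assoc, hp2, one_mul, inv_eq_of_mul_eq_one_right hq2]
    rw [Subgroup.mem_centralizer_singleton_iff, ← mul_inv_eq_iff_eq_mul]
    calc v * p * g * (v * p)⁻¹ = v * (p * g * p⁻¹) * v⁻¹ := by group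
      _ = (v * g * v⁻¹)⁻¹ := by rw [hpg]; group
      _ = g := by rw [hv, inv_inv]
  refine Nat.card_eq_of_bijective (fun p => (⟨v * p.1.1, hto p⟩ : Subgroup.centralizer ({g} : Set G)))
    ⟨?_, ?_⟩
  · rintro ⟨⟨p, q⟩, hp, hq, hpq⟩ ⟨⟨p', q'⟩, hp', hq', hpq'⟩ h
    obtain rfl : p = p' := mul_left_cancel (congrArg Subtype.val h)
    obtain rfl : q = q' := mul_left_cancel (hpq.trans hpq'.symm)
    rfl
  · rintro ⟨c, hc⟩
    have hp := D.inverter_sq hg (hgc c hc)
    have hq := D.inverter_sq hg (x := v * c * g) (by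
      calc v * c * g * g * (v * c * g)⁻¹ = v * c * g * (v * c)⁻¹ := by group
        _ = _ := hgc c hc)
    refine ⟨⟨(v * c, v * c * g), (D.isConj_t hp.1 hp.2).symm, (D.isConj_t hq.1 hq.2).symm, ?_⟩,
      Subtype.ext ?_⟩
    · show v * c * (v * c * g) = g
      rw [← mul_assoc, hp.1, one_mul]
    · show v * (v * c) = c
      rw [← mul_assoc, hv2, one_mul]

theorem exists_inverter {g : G} (h : D.pairs g ≠ 0) : ∃ v : G, v * g * v⁻¹ = g⁻¹ := by
  obtain ⟨⟨⟨p, q⟩, hp, hq, hpq⟩⟩ := (Nat.card_ne_zero.1 h).1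
  have hsq : ∀ {z : G}, IsConj D.t z → z * z = 1 := by
    intro z hz
    obtain ⟨w, rfl⟩ := isConj_iff.1 hz
    rw [conj_mul, D.t_sq, mul_one, mul_inv_cancel]
  simp only at hpq
  refine ⟨p, ?_⟩
  rw [← hpq, mul_inv_rev, ← mul_assoc, hsq hp, one_mul, inv_eq_of_mul_eq_one_right (hsq hq)]

theorem centralizer_out {g c : G} (hg : ¬ InConj D.K g)
    (hc : c ∈ Subgroup.centralizer ({g} : Set G)) (hc1 : c ≠ 1) : ¬ InConj D.K c := fun h =>
  hg (D.inConj_of_centralizes h hc1 (Subgroup.mem_centralizer_singleton_iff.1 hc).symm)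

/-- The centralizer of an inverted element off the torus is a trivial intersection abelian group. -/
theorem centralizer_eq {g v c : G} (hg : ¬ InConj D.K g) (hv : v * g * v⁻¹ = g⁻¹)
    (hc : c ∈ Subgroup.centralizer ({g} : Set G)) (hc1 : c ≠ 1) :
    Subgroup.centralizer ({c} : Set G) = Subgroup.centralizer ({g} : Set G) := by
  have key : ∀ {g v a b : G}, ¬ InConj D.K g → v * g * v⁻¹ = g⁻¹ →
      a ∈ Subgroup.centralizer ({g} : Set G) → b ∈ Subgroup.centralizer ({g} : Set G) →
      a * b = b * a := by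
    intro g v a b hg hv ha hb
    have h := (D.pairs_spec hg hv).1
    have e := h _ (mul_mem ha hb)
    rw [← conj_mul, h a ha, h b hb, ← mul_inv_rev] at e
    exact (inv_inj.1 e).symm
  have hcv : v * c * v⁻¹ = c⁻¹ := (D.pairs_spec hg hv).1 c hc
  have hgc : g ∈ Subgroup.centralizer ({c} : Set G) :=
    Subgroup.mem_centralizer_singleton_iff.2 (Subgroup.mem_centralizer_singleton_iff.1 hc).symm
  refine le_antisymm (fun x hx => ?_) fun x hx => ?_
  · exact Subgroup.mem_centralizer_singleton_iff.2 (key (D.centralizer_out hg hc hc1) hcv hx hgc)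
  · exact Subgroup.mem_centralizer_singleton_iff.2 (key hg hv hx hc)

theorem centralizer_comm {g v a b : G} (hg : ¬ InConj D.K g) (hv : v * g * v⁻¹ = g⁻¹)
    (ha : a ∈ Subgroup.centralizer ({g} : Set G)) (hb : b ∈ Subgroup.centralizer ({g} : Set G)) :
    a * b = b * a := by
  have h := (D.pairs_spec hg hv).1
  have e := h _ (mul_mem ha hb)
  rw [← conj_mul, h a ha, h b hb, ← mul_inv_rev] at e
  exact (inv_inj.1 e).symm

end Data

end CfsgLib.Wall
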